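import Mathlib
import Cfsg.Agent.INV.AI.Pair
import Cfsg.Agent.TECH.CharP

/-!
Groups whose non-2-closed maximal 2-local subgroups are of TI type: basic notions.
-/

set_option autoImplicit false
set_option linter.unusedSectionVars false

namespace CL.GTI

open Cfsg Subgroup CL.MSS CL.Th
open scoped commutatorElement

variable {G : Type*} [Group G]

local notation "𝐂" A:max => centralizer ((A : Subgroup G) : Set G)
local notation "𝐍" A:max => normalizer ((A : Subgroup G) : Set G)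

/-- `H` has two Sylow 2-subgroups. -/
def NC (H : Subgroup G) : Prop := ∃ T T', SylIn 2 T H ∧ SylIn 2 T' H ∧ T ≠ T'

/-- `Q = O₂(M)` for a maximal 2-local subgroup `M = N(Q)` that is not 2-closed. -/
structure MQ (Q : Subgroup G) : Prop where
  pg : IsPGroup 2 Q
  ne : Q ≠ ⊥
  max : ∀ C : Subgroup G, IsPGroup 2 C → C ≠ ⊥ → 𝐍 Q ≤ 𝐍 C → 𝐍 C ≤ 𝐍 Q
  chp : 𝐂 Q ≤ Q
  ti : ∀ T T', SylIn 2 T (𝐍 Q) → SylIn 2 T' (𝐍 Q) → T ≠ T' → T ⊓ T' ≤ Q
  cov : ∀ v ∈ Q, v * v = 1 → ∃ T, SylIn 2 T (𝐍 Q) ∧ v ∈ 𝐂 T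
  nc : NC (𝐍 Q)

/-- The hypothesis on the whole group. -/
def Hyp (G : Type*) [Group G] : Prop :=
  ∀ I : Subgroup G, IsPGroup 2 I → I ≠ ⊥ → NC (normalizer (I : Set G)) →
    ∃ Q : Subgroup G, MQ Q ∧ normalizer (I : Set G) ≤ normalizer (Q : Set G)

/-- `Ω₁(Z(E))`. -/
def oz (E : Subgroup G) : Subgroup G where
  carrier := {v | v ∈ E ∧ v ∈ 𝐂 E ∧ v * v = 1}
  one_mem' := ⟨one_mem _, one_mem _, mul_one 1⟩
  mul_mem' := by
    rintro a b ⟨ha, ha', a2⟩ ⟨hb, hb', b2⟩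
    refine ⟨mul_mem ha hb, mul_mem ha' hb', ?_⟩
    rw [mul_assoc, ← mul_assoc b, ha' b hb, mul_assoc, b2, mul_one, a2]
  inv_mem' := by
    rintro a ⟨ha, ha', a2⟩
    exact ⟨inv_mem ha, inv_mem ha', by rw [← mul_inv_rev, a2, inv_one]⟩

/-- Elements that normalize `B` and act trivially on `A` modulo `B`. -/
def stb (A B : Subgroup G) : Subgroup G where
  carrier := {g | g ∈ 𝐍 B ∧ ∀ a ∈ A, ⁅a, g⁆ ∈ B}
  one_mem' := ⟨one_mem _, fun v _ => by simp⟩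
  mul_mem' := by
    rintro a b ⟨ha, ha'⟩ ⟨hb, hb'⟩
    refine ⟨mul_mem ha hb, fun v hv => ?_⟩
    have : ⁅v, a * b⁆ = ⁅v, a⁆ * (a * ⁅v, b⁆ * a⁻¹) := by simp only [commutatorElement_def]; group
    rw [this]
    exact mul_mem (ha' v hv) (conj_mem_of_normalizes le_rfl ha (hb' v hv))
  inv_mem' := by
    rintro a ⟨ha, ha'⟩
    refine ⟨inv_mem ha, fun v hv => ?_⟩
    have : ⁅v, a⁻¹⁆ = a⁻¹ * ⁅v, a⁆⁻¹ * a := by simp only [commutatorElement_def]; group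
    rw [this]
    exact conj_mem_of_normalizes' le_rfl ha (inv_mem (ha' v hv))

theorem conj_sq {g v : G} (h : v * v = 1) : g * v * g⁻¹ * (g * v * g⁻¹) = 1 := by
  calc g * v * g⁻¹ * (g * v * g⁻¹) = g * (v * v) * g⁻¹ := by group
    _ = 1 := by rw [h]; group

theorem oz_le (E : Subgroup G) : oz E ≤ E := fun _ h => h.1

theorem oz_cent (E : Subgroup G) : oz E ≤ 𝐂 E := fun _ h => h.2.1

theorem le_cent_oz (E : Subgroup G) : E ≤ 𝐂 (oz E) := fun a ha v hv => (hv.2.1 a ha).symm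

theorem oz_pg (E : Subgroup G) : IsPGroup 2 (oz E) :=
  isPGroup_iff_forall_mem.2 fun v hv => ⟨1, by rw [pow_one, pow_two, hv.2.2]⟩

theorem norm_oz (E : Subgroup G) : 𝐍 E ≤ 𝐍 (oz E) := le_normalizer_of_cj_le fun x hx =>
  cj_le_iff_forall.2 fun v hv => ⟨conj_mem_of_normalizes le_rfl hx hv.1,
    conj_mem_of_normalizes (normalizer_le_normalizer_centralizer E) hx hv.2.1, conj_sq hv.2.2⟩

theorem norm_stb {A B K : Subgroup G} (hA : K ≤ 𝐍 A) (hB : K ≤ 𝐍 B) : K ≤ 𝐍 (stb A B) :=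
  le_normalizer_of_cj_le fun x hx => cj_le_iff_forall.2 fun g hg =>
    ⟨conj_mem_of_normalizes (le_normalizer_normalizer hB) hx hg.1, fun a ha => by
      convert conj_mem_of_normalizes hB hx (hg.2 _ (conj_mem_of_normalizes' hA hx ha)) using 1
      simp only [commutatorElement_def]; group⟩

theorem cent_of_stb {A B : Subgroup G} (hB : IsPGroup 2 B) {g : G} (ho : Odd (orderOf g))
    (h : g ∈ stb A B) (hc : g ∈ 𝐂 B) : g ∈ 𝐂 A := fun a ha => by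
  have h1 := h.2 _ (inv_mem ha)
  obtain ⟨k, hk⟩ := isPGroup_iff_forall_mem.1 hB _ h1
  exact FusInv.comm_of_triv ho hk (by simp [commutatorElement_def, mul_assoc]) (hc _ h1)

theorem NC.cj {H : Subgroup G} (h : NC H) (g : G) : NC (g •ᶜ H) :=
  let ⟨_, _, a, b, c⟩ := h
  ⟨_, _, a.cj g, b.cj g, fun e => c ((cj_inj g).1 e)⟩

theorem syl_cj {T E : Subgroup G} (g : G) (h : SylIn 2 T (𝐍 (g •ᶜ E))) :
    SylIn 2 (g⁻¹ •ᶜ T) (𝐍 E) := by
  have := h.cj g⁻¹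
  rwa [cj_normalizer, inv_cj_cj] at this

theorem MQ.cj {E : Subgroup G} (h : MQ E) (g : G) : MQ (g •ᶜ E) where
  pg := isPGroup_cj g h.pg
  ne e := h.ne (cj_eq_bot_iff.1 e)
  max C a b c := by
    rw [← cj_normalizer, cj_le_iff, cj_normalizer] at c
    have := h.max _ (isPGroup_cj _ a) (fun e => b (cj_eq_bot_iff.1 e)) c
    rwa [← cj_normalizer, ← le_cj_iff, cj_normalizer] at this
  chp := by rw [← cj_centralizer]; exact cj_mono g h.chp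
  ti T T' a b c := by
    rw [le_cj_iff, cj_inf]
    exact h.ti _ _ (syl_cj g a) (syl_cj g b) fun e => c ((cj_inj _).1 e)
  cov v hv v2 := by
    obtain ⟨T, a, b⟩ := h.cov _ (mem_cj.1 hv) (by simpa using conj_sq (g := g⁻¹) v2)
    refine ⟨g •ᶜ T, by rw [← cj_normalizer]; exact a.cj g, ?_⟩
    rw [← cj_centralizer]; exact mem_cj.2 b
  nc := by rw [← cj_normalizer]; exact h.nc.cj g

variable [Finite G]

theorem oz_ne {E : Subgroup G} (h : IsPGroup 2 E) (hn : E ≠ ⊥) : oz E ≠ ⊥ := by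
  haveI := (nontrivial_iff_ne_bot _).2 (inf_centralizer_ne_bot h h le_normalizer hn)
  obtain ⟨x, hx⟩ := exists_prime_orderOf_dvd_card' (G := (E ⊓ 𝐂 E : Subgroup G)) 2
    (((h.to_inf_left (K := 𝐂 E)).card_eq_or_dvd).resolve_left Finite.one_lt_card.ne')
  obtain ⟨h1, h2⟩ := (orderOf_eq_prime_iff (p := 2)).1 hx
  intro e
  have : (x : G) ∈ oz E := ⟨x.2.1, x.2.2, by
    have := congrArg Subtype.val h1
    simpa [pow_two] using this⟩
  rw [e, mem_bot] at this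
  exact h2 (Subtype.ext this)

theorem ne_of_le {T T' U U' K : Subgroup G} (a : SylIn 2 T K) (b : SylIn 2 T' K) (c : T ≠ T')
    (hU : IsPGroup 2 U) (h1 : T ≤ U) (h2 : T' ≤ U') : U ≠ U' := by
  rintro rfl
  exact c ((a.max _ hU.to_inf_left (le_inf h1 a.le) inf_le_right).symm.trans
    (b.max _ hU.to_inf_left (le_inf h2 b.le) inf_le_right))

theorem NC.mono {H K : Subgroup G} (h : NC K) (hK : K ≤ H) : NC H := by
  obtain ⟨T, T', a, b, c⟩ := h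
  obtain ⟨U, hU, h1⟩ := exists_sylIn_ge a.pgroup (a.le.trans hK)
  obtain ⟨U', hU', h2⟩ := exists_sylIn_ge b.pgroup (b.le.trans hK)
  exact ⟨U, U', hU, hU', ne_of_le a b c hU.pgroup h1 h2⟩

theorem NC.exists_ne {H T : Subgroup G} (h : NC H) (hT : SylIn 2 T H) :
    ∃ g ∈ H, g •ᶜ T ≠ T := by
  obtain ⟨U, U', a, b, c⟩ := h
  obtain ⟨x, hx, rfl⟩ := hT.exists_conj a
  obtain ⟨y, hy, rfl⟩ := hT.exists_conj b
  by_contra hn
  push Not at hn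
  exact c ((hn x hx).trans (hn y hy).symm)

theorem nc_of_not_le {H T : Subgroup G} (hT : SylIn 2 T H) (h : ¬ H ≤ 𝐍 T) : NC H := by
  obtain ⟨g, hg, hn⟩ := SetLike.not_le_iff_exists.1 h
  exact ⟨_, _, hT.cj_of_mem hg, hT, fun e => hn (mem_normalizer_iff_cj.2 e)⟩

theorem NC.not_le {H T : Subgroup G} (h : NC H) (hT : SylIn 2 T H) : ¬ H ≤ 𝐍 T := fun e =>
  let ⟨_, hg, hn⟩ := h.exists_ne hT
  hn (cj_eq_of_mem_normalizer (e hg))

namespace MQ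
variable {E F T T' R K : Subgroup G} (h : MQ E)
include h

theorem le_syl (hT : SylIn 2 T (𝐍 E)) : E ≤ T := hT.le_of_normalized h.pg le_normalizer hT.le

theorem core2 (hR : IsPGroup 2 R) (hRN : R ≤ 𝐍 E) (hT : SylIn 2 T (𝐍 E)) (hT' : SylIn 2 T' (𝐍 E))
    (hne : T ≠ T') (h1 : T ≤ 𝐍 R) (h2 : T' ≤ 𝐍 R) : R ≤ E :=
  (le_inf (hT.le_of_normalized hR hRN h1) (hT'.le_of_normalized hR hRN h2)).trans
    (h.ti _ _ hT hT' hne)

theorem core (hR : IsPGroup 2 R) (hRN : R ≤ 𝐍 E) (hn : 𝐍 E ≤ 𝐍 R) : R ≤ E :=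
  let ⟨_, _, a, b, c⟩ := h.nc
  h.core2 hR hRN a b c (a.le.trans hn) (b.le.trans hn)

theorem cen {v : G} (hv : v ∈ E) (v2 : v * v = 1) : v ∈ 𝐂 E :=
  let ⟨_, a, b⟩ := h.cov v hv v2
  fun e he => b e (h.le_syl a he)

theorem mem_oz {v : G} (hv : v ∈ E) (v2 : v * v = 1) : v ∈ oz E := ⟨hv, h.cen hv v2, v2⟩

theorem eq_of_mem (hT : SylIn 2 T (𝐍 E)) (hT' : SylIn 2 T' (𝐍 E)) {t : G} (h1 : t ∈ T)
    (h2 : t ∈ T') (h3 : t ∉ E) : T = T' := by_contra fun e => h3 (h.ti _ _ hT hT' e ⟨h1, h2⟩)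

theorem le_of_mem (hT : SylIn 2 T (𝐍 E)) (hR : IsPGroup 2 R) (hRN : R ≤ 𝐍 E) {t : G} (h1 : t ∈ T)
    (h2 : t ∈ R) (h3 : t ∉ E) : R ≤ T :=
  let ⟨_, a, b⟩ := exists_sylIn_ge hR hRN
  h.eq_of_mem hT a h1 (b h2) h3 ▸ b

theorem exists_not_mem (hT : SylIn 2 T (𝐍 E)) : ∃ t ∈ T, t ∉ E :=
  SetLike.not_le_iff_exists.1 fun e => h.nc.not_le hT (by rw [le_antisymm e (h.le_syl hT)])

theorem eq_of_norm_le (hF : MQ F) (e : 𝐍 E ≤ 𝐍 F) : E = F :=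
  have e' := h.max F hF.pg hF.ne e
  le_antisymm (hF.core h.pg (le_normalizer.trans e) e') (h.core hF.pg (le_normalizer.trans e') e)

theorem norm_oz_le : 𝐍 (oz E) ≤ 𝐍 E := h.max _ (oz_pg E) (oz_ne h.pg h.ne) (norm_oz E)

theorem le_of_two (hK : K ≤ 𝐍 E) (a : SylIn 2 T K) (b : SylIn 2 T' K) (c : T ≠ T') :
    T ⊓ T' ≤ E := by
  obtain ⟨U, hU, h1⟩ := exists_sylIn_ge a.pgroup (a.le.trans hK)
  obtain ⟨U', hU', h2⟩ := exists_sylIn_ge b.pgroup (b.le.trans hK)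
  exact (inf_le_inf h1 h2).trans (h.ti _ _ hU hU' (ne_of_le a b c hU.pgroup h1 h2))

theorem pg_of_odd (hK : ∀ g ∈ K, Odd (orderOf g) → g ∈ 𝐂 E) : IsPGroup 2 K :=
  isPGroup_of_forall_coprime fun g hg hc =>
    eq_one_of_coprime_of_mem h.pg hc (h.chp (hK g hg (Nat.coprime_two_right.1 hc)))

/-- An element that stabilizes a normal chain `E ≥ Z ≥ 1` lies in `E`. -/
theorem mem_of_stb {Z : Subgroup G} (hZ : Z ≤ E) (hn : 𝐍 E ≤ 𝐍 Z) {g : G} (hg : g ∈ 𝐂 Z)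
    (hc : ∀ a ∈ E, ⁅a, g⁆ ∈ Z) : g ∈ E := by
  refine h.core (R := stb E Z ⊓ 𝐂 Z) (h.pg_of_odd fun x hx ho =>
    cent_of_stb (h.pg.to_le hZ) ho hx.1 hx.2) (fun x hx => ?_)
    (CL.MSS.le_normalizer_inf (norm_stb le_rfl hn) (le_normalizer_centralizer hn))
    ⟨⟨centralizer_le_normalizer _ hg, hc⟩, hg⟩
  refine mem_normalizer_of_cj_le (cj_le_iff_forall.2 fun a ha => ?_)
  convert mul_mem (inv_mem (hZ (hx.1.2 a ha))) ha using 1
  rw [commutatorElement_def]; group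

theorem eq_of_two (hF : MQ F) (a : SylIn 2 T (𝐍 E)) (b : SylIn 2 T' (𝐍 E)) (c : T ≠ T')
    (h1 : T ≤ 𝐍 F) (h2 : T' ≤ 𝐍 F) : E = F := by
  have h3 : E ≤ F := (le_inf (h.le_syl a) (h.le_syl b)).trans
    (hF.le_of_two inf_le_right (a.inf_of_le h1) (b.inf_of_le h2) c)
  by_contra hn
  exact (lt_inf_normalizer_of_lt hF.pg (lt_of_le_of_ne h3 hn)).not_ge
    (h.core2 hF.pg.to_inf_left inf_le_right a b c
      (CL.MSS.le_normalizer_inf h1 (a.le.trans le_normalizer))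
      (CL.MSS.le_normalizer_inf h2 (b.le.trans le_normalizer)))

end MQ

/-- A 2-local subgroup that contains two Sylow subgroups of `N(E)` lies in `N(E)`. -/
theorem Hyp.le_norm (H : Hyp G) {E I T T' : Subgroup G} (h : MQ E) (hI : IsPGroup 2 I) (h0 : I ≠ ⊥)
    (a : SylIn 2 T (𝐍 E)) (b : SylIn 2 T' (𝐍 E)) (c : T ≠ T') (h1 : T ≤ 𝐍 I) (h2 : T' ≤ 𝐍 I) :
    𝐍 I ≤ 𝐍 E := by
  obtain ⟨Q, hQ, e⟩ := H I hI h0
    (NC.mono ⟨T, T', a.inf_of_le h1, b.inf_of_le h2, c⟩ inf_le_right)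
  rwa [h.eq_of_two hQ a b c (h1.trans e) (h2.trans e)]

theorem Hyp.mem_norm (H : Hyp G) {E T T' : Subgroup G} (h : MQ E) {d g : G} (d2 : d * d = 1)
    (d1 : d ≠ 1) (a : SylIn 2 T (𝐍 E)) (b : SylIn 2 T' (𝐍 E)) (c : T ≠ T') (h1 : d ∈ 𝐂 T)
    (h2 : d ∈ 𝐂 T') (hg : g * d = d * g) : g ∈ 𝐍 E := by
  have key : ∀ g, g * d = d * g → g ∈ 𝐍 (zpowers d) := fun g hg =>
    mem_normalizer_iff_cj.2 (by rw [cj_zpowers, hg, mul_inv_cancel_right])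
  exact H.le_norm h (isPGroup_zpowers (k := 1) (by rw [pow_one, pow_two, d2]))
    (fun e => d1 (zpowers_eq_bot.1 e)) a b c (fun t ht => key t (h1 t ht))
    (fun t ht => key t (h2 t ht)) (key g hg)

end CL.GTI
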