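import Mathlib
import Cfsg.Agent.INV.GT.Defs

/-!
The action of a Sylow subgroup of `N(E)` on `Ω₁(E)`, and pairs of local subgroups.
-/

set_option autoImplicit false
set_option linter.unusedSectionVars false

namespace CL.GTI

open Cfsg Subgroup CL.MSS CL.Th CL.Push
open scoped commutatorElement

variable {G : Type*} [Group G]

local notation "𝐂" A:max => centralizer ((A : Subgroup G) : Set G)
local notation "𝐍" A:max => normalizer ((A : Subgroup G) : Set G)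

theorem oz_comm {E : Subgroup G} {a b : G} (ha : a ∈ oz E) (hb : b ∈ oz E) : a * b = b * a :=
  hb.2.1 a ha.1

variable [Finite G]

namespace MQ
variable {E T : Subgroup G} (h : MQ E) (hT : SylIn 2 T (normalizer (E : Set G)))
include h hT

theorem cent_of_comm {v t : G} (hv : v ∈ oz E) (ht : t ∈ T) (htE : t ∉ E) (hc : t * v = v * t) :
    v ∈ 𝐂 T := by
  obtain ⟨U, a, b⟩ := h.cov v hv.1 hv.2.2
  have h1 : U ≤ centralizer {v} := fun u hu => mem_centralizer_singleton_iff.2 (b u hu)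
  obtain ⟨x, hx, e⟩ := (a.inf_of_le h1).exists_le_conj (hT.pgroup.to_le (zpowers_le.2 ht))
    (zpowers_le.2 ⟨hT.le ht, mem_centralizer_singleton_iff.2 hc⟩)
  rw [h.eq_of_mem hT (a.cj_of_mem hx.1) ht (e (mem_zpowers t)) htE]
  exact fun u hu => mem_centralizer_singleton_iff.1 (cj_le_of_mem h1 hx.2 hu)

theorem comm_of_sq {v t : G} (hv : v ∈ oz E) (ht : t ∈ T) (htE : t ∉ E) (h2 : t * t ∈ E) :
    v * (t * v * t⁻¹) ∈ 𝐂 T := by
  have hv' := conj_mem_of_normalizes (norm_oz E) (hT.le ht) hv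
  refine h.cent_of_comm hT (mul_mem hv hv') ht htE ?_
  calc t * (v * (t * v * t⁻¹)) = t * v * t⁻¹ * (t * t * v) * t⁻¹ := by group
    _ = t * v * t⁻¹ * v * t := by rw [hv.2.1 _ h2]; group
    _ = _ := by rw [oz_comm hv hv']

variable (hn : ¬ oz E ≤ centralizer (T : Set G))
include hn

theorem mem_of_cent {t : G} (ht : t ∈ T) (hc : t ∈ 𝐂 (oz E)) : t ∈ E :=
  by_contra fun e => hn fun v hv => h.cent_of_comm hT hv ht e (hc v hv).symm

theorem sq_of_four {u : G} (hu : u ∈ T) (h4 : u * u * (u * u) ∈ E) : u * u ∈ E := by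
  by_contra h2
  refine h2 (h.mem_of_cent hT hn (mul_mem hu hu) fun v hv => ?_)
  have hN := (hT.le.trans (norm_oz E))
  have hb := conj_mem_of_normalizes hN hu hv
  have ha' := conj_mem_of_normalizes hN (mul_mem hu hu) hv
  have c1 := h.comm_of_sq hT hv (mul_mem hu hu) h2 h4 u hu
  have e1 : u * u * v * (u * u)⁻¹ * (u * (u * u * v * (u * u)⁻¹) * u⁻¹) = v * (u * v * u⁻¹) := by
    have e2 : u * (u * u * v * (u * u)⁻¹) * u⁻¹ =
        (u * v * u⁻¹)⁻¹ * (u * (v * (u * u * v * (u * u)⁻¹)) * u⁻¹) := by group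
    rw [e2, c1, mul_inv_cancel_right, oz_comm ha' (mul_mem (inv_mem hb) (mul_mem hv ha')),
      mul_assoc, mul_assoc v, ha'.2.2, mul_one, inv_eq_of_mul_eq_one_right hb.2.2, oz_comm hv hb]
  have c2 := h.cent_of_comm hT (mul_mem hv hb) (mul_mem hu hu) h2 (by
    nth_rewrite 2 [← e1]; group) u hu
  have e3 : u * v * u⁻¹ * (u * u * v * (u * u)⁻¹) = u * v * u⁻¹ * v := by
    rw [← oz_comm hv hb]
    calc _ = u * (v * (u * v * u⁻¹)) * u⁻¹ := by group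
      _ = _ := by rw [c2]; group
  rw [← mul_inv_eq_iff_eq_mul.1 (mul_left_cancel e3)]

theorem sq_mem {t : G} (ht : t ∈ T) : t * t ∈ E := by
  obtain ⟨k, hk⟩ := isPGroup_iff_forall_mem.1 hT.pgroup t ht
  induction k generalizing t with
  | zero => rw [pow_zero, pow_one] at hk; simp [hk]
  | succ k ih =>
    exact h.sq_of_four hT hn ht (ih (mul_mem ht ht)
      (by rw [← pow_two, ← pow_mul, ← pow_succ']; exact hk))

theorem comm_mem {v t : G} (hv : v ∈ oz E) (ht : t ∈ T) : ⁅v, t⁆ ∈ oz E ⊓ 𝐂 T := by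
  refine mem_inf.2 ⟨Th.comm_mem hv (norm_oz E (hT.le ht)), ?_⟩
  by_cases htE : t ∈ E
  · rw [commutatorElement_eq_one_iff_mul_comm.2 (hv.2.1 t htE).symm]; exact one_mem _
  · convert h.comm_of_sq hT hv ht htE (h.sq_mem hT hn ht) using 1
    rw [commutatorElement_def, inv_eq_of_mul_eq_one_right hv.2.2]; group

/-- `|T : E| ≤ |V : C_V(T)|`. -/
theorem relIndex_le : E.relIndex T * Nat.card (oz E ⊓ 𝐂 T : Subgroup G) ≤ Nat.card (oz E) := by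
  obtain ⟨v, hv, hvT⟩ := SetLike.not_le_iff_exists.1 hn
  obtain ⟨U, a, b⟩ := h.cov v hv.1 hv.2.2
  let f := commHomR (A := T) (y := v) fun t ht => (h.comm_mem hT hn hv ht).2
  have h1 : (oz E ⊓ 𝐂 U).comap f ≤ E.subgroupOf T := fun t ht => by_contra fun htE => by
    have h2 : (t : G) * v * (t : G)⁻¹ ∈ 𝐂 U := by
      convert inv_mem (mul_mem (inv_mem b) ht.2) using 1
      change _ = (v⁻¹ * ⁅v, (t : G)⁆)⁻¹
      rw [commutatorElement_def]; group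
    set H := 𝐍 E ⊓ (centralizer {v} ⊓ centralizer {(t : G) * v * (t : G)⁻¹}) with hH
    have h3 : U ≤ H := fun u hu => ⟨a.le hu, mem_centralizer_singleton_iff.2 (b u hu),
      mem_centralizer_singleton_iff.2 (h2 u hu)⟩
    have h4 : (t : G) ∈ 𝐍 H := mem_normalizer_iff_cj.2 (by
      have e : (t : G) * (t * v * (t : G)⁻¹) * (t : G)⁻¹ = v := by
        calc _ = (t : G) * t * v * ((t : G) * t)⁻¹ := by group
          _ = v := by rw [hv.2.1 _ (h.sq_mem hT hn t.2), mul_inv_cancel_right]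
      rw [hH, cj_inf, cj_inf, cj_eq_of_mem (hT.le t.2), cj_centralizer_singleton,
        cj_centralizer_singleton, e, inf_comm (centralizer {v})])
    obtain ⟨x, hx, e⟩ := (a.inf_of_le (h3.trans le_normalizer)).exists_le_conj
      (hT.pgroup.to_le (zpowers_le.2 t.2)) (zpowers_le.2 ⟨hT.le t.2, h4⟩)
    exact hvT (h.cent_of_comm hT hv t.2 htE (mem_centralizer_singleton_iff.1
      (cj_le_of_mem_normalizer h3 hx.2 (e (mem_zpowers _))).2.1))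
  have h2 : E.relIndex T ≤ (oz E ⊓ 𝐂 U).relIndex (oz E) := by
    refine (index_antitone h1).trans ?_
    rw [index_comap]
    refine relIndex_le_of_le_right ?_ FiniteIndex.index_ne_zero
    rintro _ ⟨t, rfl⟩
    exact (h.comm_mem hT hn hv t.2).1
  obtain ⟨g, hg, rfl⟩ := hT.exists_conj a
  have h3 := card_cj g (oz E ⊓ 𝐂 T)
  rw [cj_inf, cj_centralizer, cj_eq_of_mem_normalizer (norm_oz E hg)] at h3
  rw [← h3, ← card_mul_relIndex_of_le (inf_le_left : oz E ⊓ 𝐂 (g •ᶜ T) ≤ _), mul_comm]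
  exact Nat.mul_le_mul_left _ h2

end MQ

/-- The local subgroups attached to the Sylow subgroup `S`. -/
structure Loc (S E : Subgroup G) : Prop where
  pg : IsPGroup 2 S
  mq : MQ E
  le : E ≤ S
  syl : SylIn 2 (S ⊓ 𝐍 E) (𝐍 E)

/-- The local subgroups of non-central type. -/
structure NL (S E : Subgroup G) : Prop extends Loc S E where
  nc : ¬ oz E ≤ 𝐂 (S ⊓ 𝐍 E)

variable {S E F X : Subgroup G}

theorem Loc.cj (h : Loc S E) {n : G} (hn : n ∈ 𝐍 S) : Loc S (n •ᶜ E) :=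
  ⟨h.pg, h.mq.cj n, cj_le_of_mem_normalizer h.le hn, by
    have := h.syl.cj n
    rwa [cj_inf, cj_normalizer, cj_eq_of_mem_normalizer hn] at this⟩

theorem Loc.le_T (h : Loc S E) : E ≤ S ⊓ 𝐍 E := le_inf h.le le_normalizer

theorem NL.cent_oz (h : NL S E) {s : G} (hs : s ∈ S) (hc : s ∈ 𝐂 (oz E)) : s ∈ E := by
  by_contra hsE
  have hlt : E < S ⊓ 𝐂 (oz E) :=
    lt_of_le_not_ge (le_inf h.le (le_cent_oz E)) fun e => hsE (e ⟨hs, hc⟩)
  obtain ⟨t, ht, htE⟩ := SetLike.exists_of_lt (lt_inf_normalizer_of_lt h.pg.to_inf_left hlt)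
  exact htE (h.mq.mem_of_cent h.syl h.nc ⟨ht.1.1, ht.2⟩ ht.1.2)

theorem NL.le_of_oz_le (hE : MQ E) (hES : E ≤ S) (hF : NL S F) (h : oz F ≤ E) : E ≤ F :=
  fun e he => hF.cent_oz (hES he) fun v hv => (hE.cen (h hv) hv.2.2 e he).symm

theorem NL.not_oz_le (hE : NL S E) (hF : NL S F) (hne : E ≠ F) : ¬ oz F ≤ E := fun h =>
  have h1 := NL.le_of_oz_le hE.mq hE.le hF h
  hne (le_antisymm h1 (NL.le_of_oz_le hF.mq hF.le hE ((oz_le E).trans h1)))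

theorem NL.inf_cent (hE : NL S E) (hF : NL S F) (hne : E ≠ F) (h : F ≤ 𝐍 E) :
    oz E ⊓ 𝐂 (S ⊓ 𝐍 E) = oz F ⊓ E := by
  refine le_antisymm (fun v hv => ⟨hF.mq.mem_oz (hF.cent_oz (hE.le hv.1.1) fun w hw =>
    hv.2 w ⟨hF.le hw.1, h hw.1⟩) hv.1.2.2, hv.1.1⟩) fun v hv => ?_
  obtain ⟨w, hw, hwE⟩ := SetLike.not_le_iff_exists.1 (hE.not_oz_le hF hne)
  have h1 := hE.mq.mem_oz hv.2 hv.1.2.2
  exact ⟨h1, hE.mq.cent_of_comm hE.syl h1 ⟨hF.le hw.1, h hw.1⟩ hwE (oz_comm hw hv.1)⟩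

theorem NL.card_le (hE : NL S E) (hF : NL S F) (hne : E ≠ F) (h : F ≤ 𝐍 E) :
    Nat.card (oz F) ≤ Nat.card (oz E) := by
  refine le_trans ?_ (hE.mq.relIndex_le hE.syl hE.nc)
  rw [hE.inf_cent hF hne h, ← AInt.card_inf_mul_relIndex E (oz F), mul_comm]
  exact Nat.mul_le_mul_right _ (relIndex_le_of_le_right ((oz_le F).trans (le_inf hF.le h))
    FiniteIndex.index_ne_zero)

theorem NL.exists_mul (hE : NL S E) (hF : NL S F) (hne : E ≠ F) (h : F ≤ 𝐍 E) (h' : E ≤ 𝐍 F)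
    {t : G} (ht : t ∈ S ⊓ 𝐍 E) : ∃ a ∈ oz F, a⁻¹ * t ∈ E := by
  refine exists_of_relIndex_le ((oz_le F).trans (le_inf hF.le h)) ?_ ht
  have h1 := (hE.mq.relIndex_le hE.syl hE.nc).trans (hF.card_le hE hne.symm h')
  rw [hE.inf_cent hF hne h, ← AInt.card_inf_mul_relIndex E (oz F), mul_comm] at h1
  exact Nat.le_of_mul_le_mul_left h1 Nat.card_pos

/-- The subgroup generated by the squares. -/
def sqs (E : Subgroup G) : Subgroup G := closure {y | ∃ e ∈ E, e * e = y}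

theorem sqs_le (E : Subgroup G) : sqs E ≤ E :=
  (closure_le _).2 (by rintro _ ⟨e, he, rfl⟩; exact mul_mem he he)

theorem norm_sqs (E : Subgroup G) : 𝐍 E ≤ 𝐍 (sqs E) := le_normalizer_of_cj_le fun x hx => by
  rw [sqs, cj_closure]
  refine closure_mono ?_
  rintro _ ⟨_, ⟨e, he, rfl⟩, rfl⟩
  exact ⟨_, conj_mem_of_normalizes le_rfl hx he, by group⟩

theorem NL.sqs_le (hE : NL S E) (hF : NL S F) (hne : E ≠ F) (h : F ≤ 𝐍 E) (h' : E ≤ 𝐍 F) :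
    sqs E ≤ sqs F := closure_mono (by
  rintro _ ⟨e, he, rfl⟩
  obtain ⟨v, hv, hk⟩ := hF.exists_mul hE hne.symm h' h ⟨hE.le he, h' he⟩
  refine ⟨_, hk, ?_⟩
  rw [inv_eq_of_mul_eq_one_right hv.2.2, mul_assoc, ← mul_assoc e, hv.2.1 e he, ← mul_assoc,
    ← mul_assoc, hv.2.2, one_mul])

theorem NL.sq_eq (hE : NL S E) (hF : NL S F) (hne : E ≠ F) (h : F ≤ 𝐍 E) (h' : E ≤ 𝐍 F)
    {e : G} (he : e ∈ E) : e * e = 1 := by
  have h1 := le_antisymm (hE.sqs_le hF hne h h') (hF.sqs_le hE hne.symm h' h)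
  have h2 : sqs F = ⊥ := by_contra fun h2 => hne (hE.mq.eq_of_norm_le hF.mq
    ((h1 ▸ norm_sqs E).trans (hF.mq.max _ (hF.mq.pg.to_le (GTI.sqs_le F)) h2 (norm_sqs F))))
  rw [← mem_bot, ← h2, ← h1]
  exact subset_closure ⟨e, he, rfl⟩

/-- Two local subgroups of non-central type that normalize each other. -/
structure Pp (S E F : Subgroup G) : Prop where
  hE : NL S E
  hF : NL S F
  ne : E ≠ F
  FE : F ≤ 𝐍 E
  EF : E ≤ 𝐍 F

namespace Pp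
variable (h : Pp S E F)
include h

theorem symm : Pp S F E := ⟨h.hF, h.hE, h.ne.symm, h.EF, h.FE⟩

theorem sq {e : G} (he : e ∈ E) : e * e = 1 := h.hE.sq_eq h.hF h.ne h.FE h.EF he

theorem oz_eq : oz E = E := le_antisymm (oz_le E) fun _ he => h.hE.mq.mem_oz he (h.sq he)

theorem comm {a b : G} (ha : a ∈ E) (hb : b ∈ E) : a * b = b * a :=
  h.hE.mq.cen hb (h.sq hb) a ha

theorem card_eq : Nat.card E = Nat.card F := by
  have := le_antisymm (h.hF.card_le h.hE h.ne.symm h.EF) (h.hE.card_le h.hF h.ne h.FE)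
  rwa [h.oz_eq, h.symm.oz_eq] at this

theorem F_le : F ≤ S ⊓ 𝐍 E := le_inf h.hF.le h.FE

theorem dec {t : G} (ht : t ∈ S ⊓ 𝐍 E) : ∃ a ∈ F, ∃ e ∈ E, a * e = t :=
  let ⟨a, ha, e⟩ := h.hE.exists_mul h.hF h.ne h.FE h.EF ht
  ⟨a, ha.1, _, e, mul_inv_cancel_left _ _⟩

theorem T_le : S ⊓ 𝐍 E ≤ S ⊓ 𝐍 F := fun _ ht =>
  let ⟨_, ha, _, he, e⟩ := h.dec ht
  ⟨ht.1, e ▸ mul_mem (le_normalizer ha) (h.EF he)⟩

theorem T_eq : S ⊓ 𝐍 E = S ⊓ 𝐍 F := le_antisymm h.T_le h.symm.T_le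

theorem T_sup : S ⊓ 𝐍 E = E ⊔ F := le_antisymm (fun _ ht =>
  let ⟨_, ha, _, he, e⟩ := h.dec ht
  e ▸ mul_mem (mem_sup_right ha) (mem_sup_left he)) (sup_le h.hE.le_T h.F_le)

theorem inf_cent : E ⊓ 𝐂 (S ⊓ 𝐍 E) = F ⊓ E := by
  have := h.hE.inf_cent h.hF h.ne h.FE
  rwa [h.oz_eq, h.symm.oz_eq] at this

theorem mem_of_comm {e t : G} (he : e ∈ E) (ht : t ∈ S ⊓ 𝐍 E) (htE : t ∉ E) (hc : t * e = e * t) :
    e ∈ F :=
  (h.inf_cent.le ⟨he, h.hE.mq.cent_of_comm h.hE.syl (h.oz_eq.ge he) ht htE hc⟩).1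

theorem inv_mem_or {t : G} (ht : t ∈ S ⊓ 𝐍 E) (h2 : t * t = 1) : t ∈ E ∨ t ∈ F := by
  obtain ⟨a, ha, e, he, rfl⟩ := h.dec ht
  refine (em (a ∈ E)).imp (fun f => mul_mem f he) fun f =>
    mul_mem ha (h.mem_of_comm he (h.F_le ha) f ?_)
  rw [eq_inv_of_mul_eq_one_left h2, mul_inv_rev, inv_eq_of_mul_eq_one_right (h.sq he),
    inv_eq_of_mul_eq_one_right (h.symm.sq ha)]

theorem le_or (hX : X ≤ S ⊓ 𝐍 E) (h2 : ∀ x ∈ X, x * x = 1) : X ≤ E ∨ X ≤ F :=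
  AInt.le_or_le_of_forall fun x hx => h.inv_mem_or (hX hx) (h2 x hx)

theorem cj_eq_or {r : G} (hr : r •ᶜ E ≤ S ⊓ 𝐍 E) : r •ᶜ E = E ∨ r •ᶜ E = F :=
  (h.le_or hr (by
    intro x hx
    obtain ⟨y, hy, rfl⟩ := mem_cj'.1 hx
    exact conj_sq (h.sq hy))).imp cj_eq_of_le
    fun e => eq_of_le_of_card_ge e (by rw [card_cj, h.card_eq])

theorem swap {r : G} (hr : r ∈ 𝐍 (S ⊓ 𝐍 E)) (hn : r ∉ 𝐍 E) : r •ᶜ E = F ∧ r •ᶜ F = E := by
  have h1 := (h.cj_eq_or (cj_le_of_mem_normalizer h.hE.le_T hr)).resolve_left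
    fun e => hn (mem_normalizer_iff_cj.2 e)
  exact ⟨h1, (h.symm.cj_eq_or (h.T_eq ▸ cj_le_of_mem_normalizer h.F_le hr)).resolve_left
    fun e => h.ne ((cj_inj r).1 (h1.trans e.symm))⟩

theorem mul_mem_norm {r s : G} (hr : r ∈ 𝐍 (S ⊓ 𝐍 E)) (hs : s ∈ 𝐍 (S ⊓ 𝐍 E)) (h1 : r ∉ 𝐍 E)
    (h2 : s ∉ 𝐍 E) : r * s ∈ 𝐍 E :=
  mem_normalizer_iff_cj.2 (by rw [cj_mul, (h.swap hs h2).1, (h.swap hr h1).2])

/-- An element that interchanges `E` and `F`. -/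
theorem exists_swap (hX : X ≤ S) (hn : S ⊓ 𝐍 E ≤ 𝐍 X) (hle : ¬ X ≤ 𝐍 E) :
    ∃ x ∈ X, x ∈ 𝐍 (S ⊓ 𝐍 E) ∧ x ∉ 𝐍 E := by
  obtain ⟨y, hy, hyT⟩ := SetLike.exists_of_lt (lt_inf_normalizer_of_lt
    (h.hE.pg.to_le (sup_le hX inf_le_left : X ⊔ S ⊓ 𝐍 E ≤ S))
    (lt_of_le_not_ge le_sup_right fun e => hle ((le_sup_left.trans e).trans inf_le_right)))
  obtain ⟨x, hx, t, ht, rfl⟩ := (mem_sup_of_normalizes_left hn).1 hy.1
  exact ⟨x, hx, (mul_mem_cancel_right (le_normalizer ht)).1 hy.2, fun e =>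
    hyT (mul_mem (show x ∈ S ⊓ 𝐍 E from ⟨hX hx, e⟩) ht)⟩

/-- No normal local subgroup of non-central type exists next to a non-normal pair. -/
theorem not_normal (hn : ¬ S ≤ 𝐍 E) (hX : NL S X) : ¬ S ≤ 𝐍 X := fun hS => by
  have hn' : ¬ S ≤ 𝐍 F := fun e => hn (le_inf le_rfl e |>.trans h.T_eq.ge |>.trans inf_le_right)
  have key : ∀ {E F}, Pp S E F → ¬ S ≤ 𝐍 E → ¬ oz X ≤ E := fun {E F} h hn e => hn (by
    rw [le_antisymm (fun a ha => hX.mq.mem_oz (NL.le_of_oz_le h.hE.mq h.hE.le hX e ha) (h.sq ha)) e]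
    exact hS.trans (norm_oz X))
  have hV := (oz_le X).trans hX.le
  obtain ⟨x, hx, h1, h2⟩ := h.exists_swap hV (inf_le_left.trans (hS.trans (norm_oz X))) fun e =>
    (h.le_or (le_inf hV e) fun x hx => hx.2.2).elim (key h hn) (key h.symm hn')
  obtain ⟨e1, e2⟩ := h.swap h1 h2
  refine h.hF.not_oz_le h.hE h.ne.symm fun e he => ?_
  have he' : x * e * x⁻¹ ∈ F := e1 ▸ conj_mem_cj he.1
  have h3 : e * (x * e * x⁻¹) ∈ oz X := by
    convert inv_mem (Th.comm_mem hx (norm_oz X (hS (h.hE.le he.1)))) using 1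
    rw [commutatorElement_inv, commutatorElement_def, inv_eq_of_mul_eq_one_right he.2.2]; group
  rcases h.inv_mem_or (mul_mem (h.hE.le_T he.1) (h.F_le he')) h3.2.2 with f | f
  · rw [mul_mem_cancel_left he.1, ← e2] at f
    exact conj_mem_cj_iff.1 f
  · exact (mul_mem_cancel_right he').1 f

end Pp

theorem Loc.oz_eq (h : Loc S E) (hc : oz E ≤ 𝐂 (S ⊓ 𝐍 E)) : oz E = oz (S ⊓ 𝐍 E) :=
  le_antisymm (fun _ hv => ⟨h.le_T hv.1, hc hv, hv.2.2⟩) fun _ hv =>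
    h.mq.mem_oz (h.mq.chp fun e he => hv.2.1 e (h.le_T he)) hv.2.2

theorem Loc.nl (h : Loc S E) (hn : ¬ S ≤ 𝐍 E) : NL S E := ⟨h, fun hc => by
  obtain ⟨s, hs, hs'⟩ := SetLike.exists_of_lt (lt_inf_normalizer_of_lt h.pg
    (lt_of_le_not_ge inf_le_left fun e => hn (e.trans inf_le_right) : S ⊓ 𝐍 E < S))
  exact hs' ⟨hs.1, h.mq.norm_oz_le (h.oz_eq hc ▸ norm_oz _ hs.2)⟩⟩

theorem Loc.exists_pp (h : Loc S E) (hn : ¬ S ≤ 𝐍 E) : ∃ F, Pp S E F := by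
  obtain ⟨s, hs, hs'⟩ := SetLike.exists_of_lt (lt_inf_normalizer_of_lt h.pg
    (lt_of_le_not_ge inf_le_left fun e => hn (e.trans inf_le_right) : S ⊓ 𝐍 E < S))
  have e : S ⊓ 𝐍 (s •ᶜ E) = S ⊓ 𝐍 E := by
    rw [← cj_normalizer, ← cj_eq_of_mem_normalizer hs.2, cj_inf, cj_eq_of_mem hs.1]
  exact ⟨s •ᶜ E, h.nl hn, (h.cj (le_normalizer hs.1)).nl fun f =>
    hn ((le_inf le_rfl f).trans (e.le.trans inf_le_right)),
    fun f => hs' ⟨hs.1, mem_normalizer_iff_cj.2 f.symm⟩,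
    (cj_le_of_mem_normalizer h.le_T hs.2).trans inf_le_right,
    h.le_T.trans (e.ge.trans inf_le_right)⟩

end CL.GTI
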