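import Mathlib
import Cfsg.Agent.INV.GT.Loc
import Cfsg.Agent.INV.Rk1Solv

/-!
Local subgroups of central type.
-/

set_option autoImplicit false
set_option linter.unusedSectionVars false

namespace CL.GTI

open Cfsg Subgroup CL.MSS CL.Th CL.Push
open scoped commutatorElement

variable {G : Type*} [Group G]

local notation "𝐂" A:max => centralizer ((A : Subgroup G) : Set G)
local notation "𝐍" A:max => normalizer ((A : Subgroup G) : Set G)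

theorem cj_oz_le (g : G) (E : Subgroup G) : g •ᶜ oz E ≤ oz (g •ᶜ E) :=
  cj_le_iff_forall.2 fun v hv => ⟨conj_mem_cj hv.1, by
    rw [← cj_centralizer]; exact conj_mem_cj hv.2.1, conj_sq hv.2.2⟩

theorem cj_oz (g : G) (E : Subgroup G) : g •ᶜ oz E = oz (g •ᶜ E) :=
  le_antisymm (cj_oz_le g E) (le_cj_iff.2 ((cj_oz_le _ _).trans (by rw [inv_cj_cj])))

/-- The stability group of the chain `Q ≥ Y ≥ Ω₁(Z(Q)) ≥ 1`. -/
def St (Q Y : Subgroup G) : Subgroup G := 𝐍 Q ⊓ (stb Q Y ⊓ (stb Y (oz Q) ⊓ 𝐂 (oz Q)))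

/-- The local subgroups of central type. -/
structure CT (S Q : Subgroup G) : Prop extends Loc S Q where
  cen : oz Q ≤ 𝐂 (S ⊓ 𝐍 Q)

variable [Finite G] {S E F Q Y : Subgroup G}

theorem Loc.cj' (h : Loc S E) (g : G) : Loc (g •ᶜ S) (g •ᶜ E) :=
  ⟨isPGroup_cj g h.pg, h.mq.cj g, cj_mono g h.le, by
    have := h.syl.cj g
    rwa [cj_inf, cj_normalizer] at this⟩

theorem NL.cj' (h : NL S E) (g : G) : NL (g •ᶜ S) (g •ᶜ E) := ⟨h.toLoc.cj' g, fun e => h.nc (by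
  rwa [← cj_oz, ← cj_normalizer, ← cj_inf, ← cj_centralizer, cj_le_cj_iff] at e)⟩

theorem Pp.cj' (h : Pp S E F) (g : G) : Pp (g •ᶜ S) (g •ᶜ E) (g •ᶜ F) :=
  ⟨h.hE.cj' g, h.hF.cj' g, fun e => h.ne ((cj_inj g).1 e),
    by rw [← cj_normalizer]; exact cj_mono g h.FE, by rw [← cj_normalizer]; exact cj_mono g h.EF⟩

theorem CT.cj' (h : CT S Q) (g : G) : CT (g •ᶜ S) (g •ᶜ Q) := ⟨h.toLoc.cj' g, by
  rw [← cj_oz, ← cj_normalizer, ← cj_inf, ← cj_centralizer]; exact cj_mono g h.cen⟩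

theorem Loc.ct_or_nl (h : Loc S E) : CT S E ∨ NL S E :=
  (em _).imp (fun e => ⟨h, e⟩) fun e => ⟨h, e⟩

theorem Loc.oz_le (h : Loc S E) : oz S ≤ E := fun _ hv =>
  h.mq.chp fun e he => hv.2.1 e (h.le he)

theorem MQ.St_pg (h : MQ Q) (hY : Y ≤ Q) : IsPGroup 2 (St Q Y) := h.pg_of_odd fun _ hg ho =>
  cent_of_stb (h.pg.to_le hY) ho hg.2.1 (cent_of_stb (oz_pg Q) ho hg.2.2.1 hg.2.2.2)

/-- If `q > 2`, then `T` is normal in `S`. -/
theorem Pp.le_norm_T (h : Pp S E F) (hb : ¬ F.relIndex E ≤ 2) : S ≤ 𝐍 (S ⊓ 𝐍 E) := by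
  have key : ∀ X : Subgroup G, X ≤ S ⊓ 𝐍 (S ⊓ 𝐍 E) → (∀ a ∈ X, ∀ b ∈ X, a * b = b * a) →
      (∀ a ∈ X, a * a = 1) → Nat.card X = Nat.card E → X ≤ S ⊓ 𝐍 E := fun X h1 h2 h3 h4 => by
    refine le_inf (h1.trans inf_le_left) (by_contra fun hn => hb ?_)
    obtain ⟨x, hx, hxE⟩ := SetLike.not_le_iff_exists.1 hn
    obtain ⟨e1, e2⟩ := h.swap (h1 hx).2 hxE
    have h5 : X ⊓ 𝐍 E ≤ E ⊓ F := fun y hy => by
      have e : x * y * x⁻¹ = y := by rw [h2 x hx y hy.1, mul_inv_cancel_right]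
      rcases h.inv_mem_or ⟨(h1 hy.1).1, hy.2⟩ (h3 y hy.1) with f | f
      · exact ⟨f, by rw [← e, ← e1]; exact conj_mem_cj f⟩
      · exact ⟨by rw [← e, ← e2]; exact conj_mem_cj f, f⟩
    have h6 : (𝐍 E).relIndex X ≤ 2 := AInt.relIndex_le_two_iff.2 fun a ha b hb =>
      h.mul_mem_norm (h1 ha).2 (h1 hb).2
    have h7 := Nat.mul_le_mul (card_le_of_le h5) h6
    rw [AInt.card_inf_mul_relIndex, h4, ← AInt.card_inf_mul_relIndex F E] at h7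
    exact Nat.le_of_mul_le_mul_left h7 Nat.card_pos
  by_contra hn
  obtain ⟨y, hy, hy'⟩ := SetLike.exists_of_lt (lt_inf_normalizer_of_lt h.hE.pg
    (lt_of_le_not_ge inf_le_left fun e => hn (e.trans inf_le_right) : S ⊓ 𝐍 (S ⊓ 𝐍 E) < S))
  have key2 : ∀ {A B}, Pp S A B → A ≤ S ⊓ 𝐍 E → Nat.card A = Nat.card E → y •ᶜ A ≤ S ⊓ 𝐍 E :=
    fun {A B} p h1 h2 => key _
      (cj_le_of_mem_normalizer (h1.trans (le_inf inf_le_left le_normalizer)) hy.2)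
      (fun a ha b hb => (p.cj' y).comm ha hb) (fun a ha => (p.cj' y).sq ha) (by rw [card_cj, h2])
  refine hy' ⟨hy.1, mem_normalizer_of_cj_le ?_⟩
  nth_rewrite 1 [h.T_sup]
  rw [cj_sup]
  exact sup_le (key2 h h.hE.le_T rfl) (key2 h.symm h.F_le h.card_eq.symm)

namespace CT
variable (h : CT S Q)
include h

theorem le_norm : S ≤ 𝐍 Q := by_contra fun e => (h.toLoc.nl e).nc h.cen

theorem T_eq : S ⊓ 𝐍 Q = S := inf_eq_left.2 h.le_norm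

theorem syl' : SylIn 2 S (𝐍 Q) := h.T_eq ▸ h.syl

theorem oz_eq : oz Q = oz S := by rw [h.toLoc.oz_eq h.cen, h.T_eq]

theorem mem_of_stb {g : G} (hg : g ∈ S) (hc : ∀ a ∈ Q, ⁅a, g⁆ ∈ oz Q) : g ∈ Q :=
  h.mq.mem_of_stb (oz_le Q) (norm_oz Q) (h.oz_eq ▸ le_cent_oz S hg) hc

theorem not_normal (hE : NL S E) : ¬ S ≤ 𝐍 E := fun hn => hE.nc fun v hv s hs => by
  have h1 : v ∈ Q := h.mem_of_stb (hE.le hv.1) fun a ha => by
    have := hE.mq.comm_mem hE.syl hE.nc hv ⟨h.le ha, hn (h.le ha)⟩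
    rw [inf_eq_left.2 hn] at this
    rw [h.oz_eq, ← commutatorElement_inv]
    exact inv_mem ⟨hE.le this.1.1, this.2, this.1.2.2⟩
  exact (h.oz_eq ▸ h.mq.mem_oz h1 hv.2.2).2.1 s hs.1

variable (p : Pp S E F) (hn : ¬ S ≤ normalizer (E : Set G))
include p

theorem comm_mem {a e : G} (ha : a ∈ Q) (ha' : a ∈ 𝐍 E) (he : e ∈ E) : ⁅a, e⁆ ∈ oz Q :=
  h.mq.mem_oz (Th.comm_mem ha (h.le_norm (p.hE.le he))) (p.sq (by
    rw [← commutatorElement_inv]; exact inv_mem (Th.comm_mem he ha')))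

include hn

theorem not_le : ¬ E ≤ Q := fun e => hn fun s hs => centralizer_le_normalizer _ fun a ha =>
  ((h.oz_eq ▸ h.mq.mem_oz (e ha) (p.sq ha)).2.1 s hs).symm

theorem St_le (hb : ¬ F.relIndex E ≤ 2) (h1 : oz Q ≤ Y)
    (h2 : ∀ a ∈ Q, ∀ b ∈ Q, a ∉ Y → b ∉ Y → a * b ∈ Y) :
    St Q (Q ⊓ 𝐍 E ⊓ Y) ≤ S ∧ ¬ St Q (Q ⊓ 𝐍 E ⊓ Y) ≤ Q := by
  have hT := p.le_norm_T hb
  have hZ : oz Q ≤ Q ⊓ 𝐍 E ⊓ Y :=
    le_inf (le_inf (oz_le Q) (h.oz_eq.le.trans (p.hE.oz_le.trans le_normalizer))) h1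
  have hN : ∀ e ∈ E, e ∈ 𝐍 (Q ⊓ 𝐍 E ⊓ Y) := fun e he =>
    mem_normalizer_of_cj_le (cj_le_iff_forall.2 fun y hy => by
      convert mul_mem (inv_mem (hZ (h.comm_mem p hy.1.1 hy.1.2 he))) hy using 1
      rw [commutatorElement_def]; group)
  have hS : ∀ e ∈ E, (∀ x ∈ Q, ⁅x, e⁆ ∈ Y) → e ∈ St Q (Q ⊓ 𝐍 E ⊓ Y) := fun e he f =>
    ⟨h.le_norm (p.hE.le he), ⟨hN e he, fun x hx => ⟨⟨Th.comm_mem hx (h.le_norm (p.hE.le he)), by
      rw [← commutatorElement_inv]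
      exact (inv_mem (Th.comm_mem (p.hE.le_T he) (hT (h.le hx)))).2⟩, f x hx⟩⟩,
      ⟨norm_oz Q (h.le_norm (p.hE.le he)), fun y hy => h.comm_mem p hy.1.1 hy.1.2 he⟩,
      h.oz_eq ▸ le_cent_oz S (p.hE.le he)⟩
  have hK : ∀ e ∈ E, e ∉ St Q (Q ⊓ 𝐍 E ⊓ Y) → ∀ x ∈ Q, x ∉ 𝐍 E → ⁅x, e⁆ ∉ Y := by
    intro e he f x hx hxE g
    refine f (hS e he fun y hy => ?_)
    by_cases hyE : y ∈ 𝐍 E
    · exact h1 (h.comm_mem p hy hyE he)
    have h3 := h.comm_mem p (mul_mem (inv_mem hx) hy)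
      (p.mul_mem_norm (inv_mem (hT (h.le hx))) (hT (h.le hy)) (fun c => hxE (inv_mem_iff.1 c)) hyE) he
    have e : ⁅y, e⁆ = x * ⁅x⁻¹ * y, e⁆ * x⁻¹ * ⁅x, e⁆ := by simp only [commutatorElement_def]; group
    rw [e, h3.2.1 x hx, mul_inv_cancel_right]
    exact mul_mem (h1 h3) g
  have hi : (St Q (Q ⊓ 𝐍 E ⊓ Y)).relIndex E ≤ 2 := AInt.relIndex_le_two_iff.2 fun a ha b hb f g =>
    hS _ (mul_mem ha hb) fun x hx => by
      by_cases hxE : x ∈ 𝐍 E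
      · exact h1 (h.comm_mem p hx hxE (mul_mem ha hb))
      have haQ := h.le_norm (p.hE.le ha)
      have hbQ := Th.comm_mem hx (h.le_norm (p.hE.le hb))
      have e : ⁅x, a * b⁆ = ⁅x, a⁆ * (a * ⁅x, b⁆ * a⁻¹) := by
        simp only [commutatorElement_def]; group
      rw [e]
      refine h2 _ (Th.comm_mem hx haQ) _ (conj_mem_of_normalizes le_rfl haQ hbQ)
        (hK a ha f x hx hxE) fun c => hK b hb g x hx hxE ?_
      have h3 : ⁅x, b⁆ ∈ 𝐍 E := by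
        rw [← commutatorElement_inv]
        exact (inv_mem (Th.comm_mem (p.hE.le_T hb) (hT (h.le hx)))).2
      convert mul_mem (h1 (h.comm_mem p hbQ h3 ha)) c using 1
      rw [commutatorElement_def ⁅x, b⁆]; group
  obtain ⟨e, he, heQ⟩ := SetLike.not_le_iff_exists.1 fun f : St Q (Q ⊓ 𝐍 E ⊓ Y) ⊓ E ≤ Q => hb (by
    refine le_trans (relIndex_le_of_le_left (fun a ha => p.hF.oz_le
      (h.oz_eq ▸ h.mq.mem_oz (f ha) (p.sq ha.2))) FiniteIndex.index_ne_zero) ?_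
    rwa [inf_relIndex_right])
  exact ⟨h.mq.le_of_mem h.syl' (h.mq.St_pg (inf_le_left.trans inf_le_left)) inf_le_left
    (p.hE.le he.2) he.1 heQ, fun f => heQ (f he.1)⟩

theorem relIndex_le : F.relIndex E ≤ 2 := by
  by_contra hb
  obtain ⟨g, hg, hne⟩ := h.mq.nc.exists_ne h.syl'
  have h' := h.cj' g
  rw [cj_eq_of_mem_normalizer hg] at h'
  have hn' : ¬ g •ᶜ S ≤ 𝐍 (g •ᶜ E) := by rwa [← cj_normalizer, cj_le_cj_iff]
  have hb' : ¬ (g •ᶜ F).relIndex (g •ᶜ E) ≤ 2 := by rwa [relIndex_cj]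
  have key : ∀ {S E F}, CT S Q → Pp S E F → ¬ F.relIndex E ≤ 2 → oz Q ≤ 𝐍 E ∧
      ∀ a ∈ Q, ∀ b ∈ Q, a ∉ 𝐍 E → b ∉ 𝐍 E → a * b ∈ 𝐍 E := fun h p hb =>
    ⟨h.oz_eq.le.trans (p.hE.oz_le.trans le_normalizer), fun a ha b hb' =>
      p.mul_mem_norm (p.le_norm_T hb (h.le ha)) (p.le_norm_T hb (h.le hb'))⟩
  obtain ⟨h1, h2⟩ := h.St_le p hn hb (key h' (p.cj' g) hb').1 (key h' (p.cj' g) hb').2
  obtain ⟨h3, -⟩ := h'.St_le (p.cj' g) hn' hb' (key h p hb).1 (key h p hb).2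
  rw [inf_right_comm] at h3
  exact h2 ((le_inf h3 h1).trans (h.mq.ti _ _ h'.syl' h.syl' hne))

theorem uniq (H : Hyp G) {a b : G} (ha : a ∈ oz Q) (hb : b ∈ oz Q) (a1 : a ≠ 1) (b1 : b ≠ 1) :
    a = b := by
  obtain ⟨g, hg, hne⟩ := p.hE.mq.nc.exists_ne p.hE.syl
  have key : ∀ c ∈ oz S, c ∈ g •ᶜ F → c = 1 := fun c hc hc' => by_contra fun c1 =>
    hn fun s hs => H.mem_norm p.hE.mq hc.2.2 c1 (p.hE.syl.cj_of_mem hg) p.hE.syl hne (by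
      rw [← cj_centralizer]
      exact mem_cj.2 (p.inf_cent.ge ⟨mem_cj.1 hc',
        conj_mem_of_normalizes' le_rfl hg (p.hE.oz_le hc)⟩).2)
      (fun t ht => hc.2.1 t ht.1) (hc.2.1 s hs)
  have h1 := h.relIndex_le p hn
  rw [← relIndex_cj g, cj_eq_of_mem_normalizer hg] at h1
  rw [h.oz_eq] at ha hb
  have h2 := key _ (mul_mem ha hb) (AInt.relIndex_le_two_iff.1 h1 a (p.hE.oz_le ha) b (p.hE.oz_le hb)
    (fun e => a1 (key a ha e)) fun e => b1 (key b hb e))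
  exact mul_right_cancel (h2.trans hb.2.2.symm)

theorem exists_gl (H : Hyp G) : ∃ z : G, orderOf z = 2 ∧
    Nonempty (centralizer ({z} : Set G) ≃* GL (Fin 2) (ZMod 3)) := by
  obtain ⟨⟨z, hz⟩, z1⟩ := ne_bot_iff_exists_ne_one.1 (oz_ne h.mq.pg h.mq.ne)
  replace z1 : z ≠ 1 := fun e => z1 (Subtype.ext e)
  have hu : ∀ a ∈ oz Q, a = 1 ∨ a = z := fun a ha =>
    or_iff_not_imp_left.2 fun a1 => h.uniq p hn H ha hz a1 z1
  have hC : centralizer ({z} : Set G) = 𝐍 Q := by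
    refine le_antisymm (fun c hc => h.mq.norm_oz_le (centralizer_le_normalizer _ fun a ha => ?_))
      fun c hc => mem_centralizer_singleton_iff.2 (mul_inv_eq_iff_eq_mul.1
        ((hu _ (conj_mem_of_normalizes (norm_oz Q) hc hz)).resolve_left fun e => z1 (by simpa using e)))
    rcases hu a ha with rfl | rfl
    · simp
    · exact (mem_centralizer_singleton_iff.1 hc).symm
  refine ⟨z, orderOf_eq_prime (by rw [pow_two, hz.2.2]) z1, ?_⟩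
  rw [hC]
  have hp : ¬ IsPGroup 2 (𝐍 Q) := fun f => h.mq.nc.not_le (sylIn_self f) le_normalizer
  have key : ¬ IsPGroup 2 (MulAut Q) := fun f =>
    hp (h.mq.pg_of_odd (FusInv.quiet_of_isPGroup_mulAut f))
  obtain c | ⟨n, ⟨f⟩⟩ := Rk1.cyc_or_quat h.mq.pg (Rk1.rank_one_of (z := ⟨z, hz.1⟩) fun x hx =>
    (hu x (h.mq.mem_oz x.2 (congrArg Subtype.val hx))).imp Subtype.ext Subtype.ext)
  · exact absurd (OddAut.isPGroup_mulAut_of_isCyclic h.mq.pg) key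
  rcases n with _ | n
  swap
  · exact absurd ((Zass.isPGroup_mulAut_quaternion (by omega)).of_equiv (MulAut.congr f).symm) key
  have h2 : ((inclusion (le_normalizer : Q ≤ 𝐍 Q)).comp f.symm.toMonoidHom).range =
      Q.subgroupOf (𝐍 Q) := by
    rw [MonoidHom.range_comp, MonoidHom.range_eq_top.2 f.symm.surjective, ← MonoidHom.range_eq_map,
      inclusion_range]
  have qd : Rk1.QD ((inclusion (le_normalizer : Q ≤ 𝐍 Q)).comp f.symm.toMonoidHom) := by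
    refine ⟨(inclusion_injective le_normalizer).comp f.symm.injective, ?_, ?_⟩ <;> rw [h2]
    · infer_instance
    · exact fun c hc => h.mq.chp fun a ha => congrArg Subtype.val (hc ⟨a, le_normalizer ha⟩ ha)
  obtain ⟨t, ht, htQ⟩ := SetLike.not_le_iff_exists.1 (h.not_le p hn)
  refine qd.equiv_gl ?_ (t := ⟨t, h.le_norm (p.hE.le ht)⟩) (Subtype.ext (p.sq ht)) (h2 ▸ htQ)
  have h3 := qd.card_dvd
  have h4 : Nat.card Q = 8 := by
    rw [Nat.card_congr f.toEquiv, Nat.card_eq_fintype_card, QuaternionGroup.card]; rfl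
  obtain ⟨k, hk⟩ := h.pg.exists_card_eq
  have h5 : 2 ^ 3 < 2 ^ k := by
    rw [← hk, show 2 ^ 3 = 8 from rfl, ← h4]
    exact card_lt_of_lt (lt_of_le_not_ge h.le fun e => htQ (e (p.hE.le ht)))
  have h6 : 2 ^ 4 ∣ Nat.card (𝐍 Q) :=
    (pow_dvd_pow 2 ((Nat.pow_lt_pow_iff_right one_lt_two).1 h5)).trans (hk ▸ card_dvd_of_le h.le_norm)
  obtain ⟨m, hm⟩ := h6
  have h7 : m ∣ 3 := Nat.dvd_of_mul_dvd_mul_left (by norm_num : 0 < 2 ^ 4) (hm ▸ h3)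
  rcases (Nat.dvd_prime Nat.prime_three).1 h7 with rfl | rfl
  · exact absurd (IsPGroup.of_card (hm.trans (mul_one _))) hp
  · exact hm

end CT

end CL.GTI
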