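import Mathlib
import Cfsg.Agent.INV.GT.Cen
import Cfsg.Agent.INV.AI.Two
import Cfsg.Agent.INV.DihFusion

/-!
Fusion is controlled by the local subgroups; the dihedral case.
-/

set_option autoImplicit false
set_option linter.unusedSectionVars false

namespace CL.GTI

open Cfsg Subgroup CL.MSS CL.Th CL.Push
open scoped commutatorElement

variable {G : Type*} [Group G]

local notation "𝐂" A:max => centralizer ((A : Subgroup G) : Set G)
local notation "𝐍" A:max => normalizer ((A : Subgroup G) : Set G)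

variable [Finite G] {P : Sylow 2 G} {S E F Q : Subgroup G}

theorem loc_of_essential (H : Hyp G) (h : Tr.Essential P E) : Loc (P : Subgroup G) E := by
  obtain ⟨hlt, hs, M, hM1, hM2, hM3⟩ := h
  have hT := sylIn_of_not_dvd_relIndex P.2.to_inf_left inf_le_right hs
  have rad : ∀ R : Subgroup G, IsPGroup 2 R → R ≤ 𝐍 E → 𝐍 E ≤ 𝐍 R → R ≤ E :=
    fun R a b c t ht => by_contra fun htE =>
      have h1 := (hT.le_of_normalized a b (inf_le_right.trans c)).trans inf_le_left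
      hM3 fun x hx => hM2 x hx ⟨t, h1 ht, htE, h1 (conj_mem_of_normalizes c hx ht)⟩
  have nc : NC (𝐍 E) := nc_of_not_le hT fun e =>
    (lt_inf_normalizer_of_lt P.2 hlt).not_ge (rad _ hT.pgroup hT.le e)
  have hE := P.2.to_le hlt.le
  obtain ⟨Q, hQ, e⟩ := H E hE (fun e => hM3 fun x _ => hM1 fun a ha => by
    rw [e, SetLike.mem_coe, mem_bot] at ha; rw [ha, mul_one, one_mul]) nc
  obtain ⟨T, T', a, b, c⟩ := nc
  have h1 : E ≤ Q := (le_inf (a.le_of_normalized hE le_normalizer a.le)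
    (b.le_of_normalized hE le_normalizer b.le)).trans (hQ.le_of_two e a b c)
  obtain rfl : E = Q := by_contra fun hn =>
    (lt_inf_normalizer_of_lt hQ.pg (lt_of_le_of_ne h1 hn)).not_ge
      (rad _ hQ.pg.to_inf_left inf_le_right (CL.MSS.le_normalizer_inf e le_normalizer))
  exact ⟨P.2, hQ, hlt.le, hT⟩

theorem invariant_loc (H : Hyp G) {α : Sort*} (f : G → α)
    (hP : ∀ n ∈ 𝐍 (P : Subgroup G), ∀ a ∈ (P : Subgroup G), f (n * a * n⁻¹) = f a)
    (base : ∀ E, Loc (P : Subgroup G) E → ∀ x ∈ 𝐍 E, ∀ a ∈ E, f (x * a * x⁻¹) = f a)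
    {a g : G} (ha : a ∈ (P : Subgroup G)) (hg : g * a * g⁻¹ ∈ (P : Subgroup G)) :
    f (g * a * g⁻¹) = f a := by
  have key := Tr.alperin_induction_subgroup P (fun A g => ∀ a ∈ A, f (g * a * g⁻¹) = f a)
    (fun _ _ a _ => by simp)
    (fun A B g hAB h a ha => h a (hAB ha))
    (fun A g k h1 h2 a ha => by
      have e1 := h2 (g * a * g⁻¹) ⟨a, ha, rfl⟩
      rw [← h1 a ha, ← e1]
      congr 1; group)
    (fun A g h => by
      rintro _ ⟨a, ha, rfl⟩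
      change f (g⁻¹ * (g * a * g⁻¹) * g⁻¹⁻¹) = f (g * a * g⁻¹)
      rw [h a ha]
      congr 1; group)
    (fun E hE hEN M hM1 hM2 => by
      rcases hE.eq_or_lt with rfl | hlt
      · exact fun x hx => hM1 x hx (hP x hx)
      by_contra hNM
      have hess : Tr.Essential P E := ⟨hlt, hEN, M, fun c hc =>
        hM1 c (Subgroup.centralizer_le_normalizer _ hc)
          fun a ha => by rw [← hc a ha]; simp, hM2, hNM⟩
      exact hNM fun x hx => hM1 x hx (base E (loc_of_essential H hess) x hx))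
    ((P : Subgroup G) ⊓ (P : Subgroup G).comap (MulAut.conj g).toMonoidHom) g inf_le_left
    (fun a ha => ha.2)
  exact key a ⟨ha, hg⟩

theorem sc_of_loc (H : Hyp G) {Y : Subgroup G} (a : Y ≤ P) (c : 𝐍 (P : Subgroup G) ≤ 𝐍 Y)
    (d : ∀ E, Loc (P : Subgroup G) E → 𝐍 E ≤ 𝐍 Y) : IsStronglyClosed Y (P : Subgroup G) :=
  ⟨a, fun _ hy _ hg => (invariant_loc H (fun a => a ∈ Y)
    (fun _ hn a _ => propext (mem_normalizer_iff.1 (c hn) a).symm)
    (fun X hX _ hg a _ => propext (mem_normalizer_iff.1 (d X hX hg) a).symm) (a hy) hg).to_iff.2 hy⟩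

theorem MQ.exists_loc (h : MQ Q) (P : Sylow 2 G) : ∃ g : G, Loc (P : Subgroup G) (g •ᶜ Q) := by
  obtain ⟨T, hT⟩ := exists_sylIn 2 (𝐍 Q)
  obtain ⟨g, -, hg⟩ := (sylIn_top P).exists_conj_le hT.pgroup le_top
  have h1 := hT.cj g
  rw [cj_normalizer] at h1
  exact ⟨g, P.2, h.cj g, (cj_mono g (h.le_syl hT)).trans hg,
    h1.max _ P.2.to_inf_left (le_inf hg h1.le) inf_le_right ▸ h1⟩

theorem uq_of_comm (H : Hyp G) (hel : ∀ Q : Subgroup G, MQ Q → ∀ a ∈ Q, ∀ b ∈ Q, a * b = b * a) :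
    AInt.Uq (P : Subgroup G) := by
  have key : ∀ I : Subgroup G, (∃ a ∈ I, ∃ b ∈ I, a * b ≠ b * a) →
      ∀ S S', SylIn 2 S ⊤ → SylIn 2 S' ⊤ → I ≤ S → I ≤ S' → S = S' := by
    intro I
    induction I using WellFoundedGT.induction with | _ I ih
    rintro ⟨a, ha, b, hb, hab⟩ S S' hS hS' h1 h2
    by_contra hne
    have hI := hS.pgroup.to_le h1
    have k : ∀ {S S'}, SylIn 2 S ⊤ → SylIn 2 S' ⊤ → I ≤ S → I ≤ S' → S ≠ S' →
        ∃ T, SylIn 2 T (𝐍 I) ∧ I ≤ T ∧ ∀ U, SylIn 2 U ⊤ → T ≤ U → U = S := by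
      intro S S' hS hS' h1 h2 hne
      have h3 := lt_inf_normalizer_of_lt hS.pgroup (lt_of_le_of_ne h1 fun e =>
        hne (hS.max _ hS'.pgroup (e ▸ h2) le_top).symm)
      obtain ⟨T, hT, h4⟩ := exists_sylIn_ge (hS.pgroup.to_inf_left (K := 𝐍 I)) inf_le_right
      exact ⟨T, hT, h3.le.trans h4, fun U hU h5 =>
        ih _ h3 ⟨a, h3.le ha, b, h3.le hb, hab⟩ _ _ hU hS (h4.trans h5) inf_le_left⟩
    obtain ⟨T, hT, h3, h4⟩ := k hS hS' h1 h2 hne
    obtain ⟨T', hT', h3', h4'⟩ := k hS' hS h2 h1 (Ne.symm hne)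
    have h5 : T ≠ T' := by
      rintro rfl
      obtain ⟨U, hU, h6⟩ := exists_sylIn_ge hT.pgroup le_top
      exact hne ((h4 U hU h6).symm.trans (h4' U hU h6))
    obtain ⟨Q, hQ, e⟩ := H I hI (fun e => hab (by
      rw [e, mem_bot] at ha; rw [ha, mul_one, one_mul])) ⟨T, T', hT, hT', h5⟩
    have h6 := (le_inf h3 h3').trans (hQ.le_of_two e hT hT' h5)
    exact hab (hel Q hQ a (h6 ha) b (h6 hb))
  refine ⟨sylIn_top P, fun g a b ha hb ha' hb' hab => ?_⟩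
  have h1 := key ((P : Subgroup G) ⊓ g⁻¹ •ᶜ (P : Subgroup G))
    ⟨a, ⟨ha, mem_cj.2 (by simpa using ha')⟩, b, ⟨hb, mem_cj.2 (by simpa using hb')⟩, hab⟩ _ _
    ((sylIn_top P).cj_of_mem (mem_top _)) (sylIn_top P) inf_le_right inf_le_left
  exact inv_mem_iff.1 (mem_normalizer_iff_cj.2 h1)

theorem Loc.not_le (h : Loc S E) : ¬ S ≤ E := fun e =>
  let ⟨_, ht, htE⟩ := h.mq.exists_not_mem h.syl
  htE (e ht.1)

theorem Loc.ess (h : Loc S E) (hc : ∀ a ∈ E, ∀ b ∈ E, a * b = b * a) : AInt.Ess S E := by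
  obtain ⟨x, hx, hne⟩ := h.mq.nc.exists_ne h.syl
  exact ⟨h.le, h.not_le, hc, fun s _ e => h.mq.chp e, h.syl, x, hx, fun e =>
    hne (cj_eq_of_mem_normalizer ((sup_le (CL.MSS.le_normalizer_inf inf_le_right
      (le_normalizer_normalizer inf_le_left))
      (h.mq.chp.trans (h.le_T.trans le_normalizer)) : AInt.MM S E ≤ _) e))⟩

/-- The dihedral case: the centralizers of involutions are `2`-groups. -/
theorem cit_of_dihedral (H : Hyp G) (h2 : ∀ K : Subgroup G, K.index ≠ 2)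
    (hE : Loc (P : Subgroup G) E) {m : ℕ} (hm : 2 ≤ m) (e : (P : Subgroup G) ≃* DihedralGroup m) :
    8 ∣ Nat.card G ∧ ∀ t : G, orderOf t = 2 → IsPGroup 2 (centralizer ({t} : Set G)) := by
  obtain ⟨n, -, ⟨c⟩⟩ := Dih.exists_coord P.2 hm e
  have h4 : Nat.card (P : Subgroup G) ≠ 2 ^ 2 := fun f => hE.not_le fun s hs => hE.mq.chp fun a ha =>
    congrArg Subtype.val ((IsPGroup.isMulCommutative_of_card_eq_prime_sq f).is_comm.comm
      ⟨a, hE.le ha⟩ ⟨s, hs⟩)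
  refine ⟨(pow_dvd_pow 2 (?_ : 3 ≤ n + 1)).trans (c.card ▸ card_subgroup_dvd_card _), fun t ht => ?_⟩
  · have := c.hn
    rw [c.card, Ne, Nat.pow_right_inj one_lt_two] at h4
    omega
  obtain ⟨g, rfl⟩ := isConj_iff.1 (Dih.Coord.Loud.isConj_of_orderOf c (c.loud_of_no_index_two h2) ht)
  rw [← cj_centralizer_singleton]
  rw [FusInv.orderOf_conj] at ht
  have hz : ∀ s ∈ (P : Subgroup G), s * c.r (Z2.hh n) = c.r (Z2.hh n) * s := fun s => c.r_h_comm
  generalize c.r (Z2.hh n) = z at ht hz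
  obtain ⟨z2, z1⟩ := (orderOf_eq_prime_iff (p := 2)).1 ht
  have key : ∀ g, g * z = z * g → g ∈ 𝐍 (zpowers z) := fun g hg =>
    mem_normalizer_iff_cj.2 (by rw [cj_zpowers, hg, mul_inv_cancel_right])
  refine isPGroup_cj _ (isPGroup_of_forall_coprime fun h hh hc => ?_)
  have ho := Nat.coprime_two_right.1 hc
  replace hh := mem_centralizer_singleton_iff.1 hh
  have hT := sylIn_sylow P fun s hs => key s (hz s hs)
  by_cases hn : 𝐍 (zpowers z) ≤ 𝐍 (P : Subgroup G)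
  · exact eq_one_of_coprime_of_mem hE.mq.pg hc (hE.mq.chp fun a ha =>
      (by_contra fun f => h4 (c.card_eq_four_of_not_quiet P.2 f) : FusInv.Quiet (P : Subgroup G))
        h (hn (key h hh)) ho a (hE.le ha))
  obtain ⟨Q, hQ, e⟩ := H _ (isPGroup_zpowers (k := 1) (by rw [pow_one, z2]))
    (fun e => z1 (zpowers_eq_bot.1 e)) (nc_of_not_le hT hn)
  refine eq_one_of_coprime_of_mem hQ.pg hc (hQ.chp (by_contra fun f => ?_))
  have h5 := c.card_eq_four_of_not_quiet hQ.pg fun q => f (q h (e (key h hh)) ho)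
  refine (FusInv.v4Sec_bot h5).fpf (e (key h hh)) ho f (x := z)
    (hQ.chp fun a ha => hz a (hQ.le_syl (sylIn_sylow P (hT.le.trans e)) ha)) z1 ?_
  rw [hh, mul_inv_cancel_right, inv_mul_cancel]
  exact one_mem _

theorem Pp.eq_or (h : Pp S E F) (hX : Loc S Q) (h1 : Q ≤ 𝐍 E) (h2 : ∀ a ∈ Q, a * a = 1) :
    Q = E ∨ Q = F :=
  have key : ∀ {E F}, Pp S E F → Q ≤ E → Q = E := fun p e =>
    le_antisymm e fun a ha => hX.mq.chp fun b hb => p.comm (e hb) ha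
  (h.le_or (le_inf hX.le h1) h2).imp (key h) (key h.symm)

theorem Pp.eq_of_mem_Z0 (H : Hyp G) (h : Pp S E F) {d : G} (h1 : d ∈ AInt.Z0 S E)
    (h2 : d ∈ AInt.Z0 S F) : d = 1 := by
  by_contra d1
  have key : ∀ {E F}, Pp S E F → d ∈ AInt.Z0 S E → ∃ T T', SylIn 2 T (𝐍 E) ∧ SylIn 2 T' (𝐍 E) ∧
      T ≠ T' ∧ d ∈ 𝐂 T ∧ d ∈ 𝐂 T' := fun {E F} p hd => by
    obtain ⟨g, hg, hne⟩ := p.hE.mq.nc.exists_ne p.hE.syl
    refine ⟨_, _, p.hE.syl.cj_of_mem hg, p.hE.syl, hne, ?_, by simpa using hd.2 1 (one_mem _)⟩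
    rw [← cj_centralizer, mem_cj]
    simpa using hd.2 g⁻¹ (inv_mem hg)
  obtain ⟨T, T', a, b, c, e, e'⟩ := key h h1
  obtain ⟨U, U', a', b', c', f, f'⟩ := key h.symm h2
  exact h.ne (h.hE.mq.eq_of_two h.hF.mq a b c
    (fun t ht => H.mem_norm h.hF.mq (h.sq h1.1) d1 a' b' c' f f' (e t ht))
    fun t ht => H.mem_norm h.hF.mq (h.sq h1.1) d1 a' b' c' f f' (e' t ht))

theorem Pp.conj_Z0 (H : Hyp G) (h : Pp S E F) {y w : G} (t : AInt.Tp S F y w) {d g : G}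
    (hd : d ∈ AInt.Z0 S E) (hg : g ∈ 𝐍 E) : g * d * g⁻¹ = d := by
  have key : ∀ d ∈ AInt.Z0 S E, d ≠ 1 → w * d ∈ AInt.Z0 S F := fun d hd d1 => by
    have h1 : d ∈ 𝐂 (S ⊓ 𝐍 E) := by simpa using hd.2 1 (one_mem _)
    exact (t.dec d (h.inf_cent.le ⟨hd.1, h1⟩).1 (h.T_eq ▸ h1)).resolve_left
      fun e => d1 (h.eq_of_mem_Z0 H hd e)
  by_cases d1 : d = 1
  · simp [d1]
  have h1 := AInt.conj_mem_Z0 hg hd
  refine (inv_mul_eq_one.1 (h.eq_of_mem_Z0 H (mul_mem (inv_mem hd) h1) ?_)).symm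
  convert mul_mem (inv_mem (key d hd d1)) (key _ h1 fun e => d1 (by simpa using e)) using 1
  group

/-- The case `|S : E| = |S : F| = 2`. -/
theorem Pp.closure_eq [IsSimpleGroup G] (H : Hyp G) (h : Pp (P : Subgroup G) E F)
    (hn : (P : Subgroup G) ≤ 𝐍 E) (hel : ∀ X, Loc (P : Subgroup G) X → X = E ∨ X = F)
    {x z y w : G} (t : AInt.Tp (P : Subgroup G) E x z) (t' : AInt.Tp (P : Subgroup G) F y w) :
    orderOf x = 2 ∧ orderOf y = 2 ∧ x ≠ y ∧ closure {x, y} = (P : Subgroup G) := by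
  have hT : (P : Subgroup G) ⊓ 𝐍 E = P := inf_eq_left.2 hn
  have hT' : (P : Subgroup G) ⊓ 𝐍 F = P := h.T_eq ▸ hT
  have k1 : ∀ {E F x z}, Pp (P : Subgroup G) E F → AInt.Tp (P : Subgroup G) E x z →
      (P : Subgroup G) ⊓ 𝐍 E = P → x ∉ F := fun p t e f => t.ess.ne fun s hs =>
    t.cx s hs ((p.inf_cent.ge ⟨f, t.xE⟩).2 s (e.ge hs))
  have hx := k1 h t hT
  have hy := k1 h.symm t' hT'
  refine ⟨orderOf_eq_prime (by rw [pow_two, t.x2]) fun e => hx (e ▸ one_mem _),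
    orderOf_eq_prime (by rw [pow_two, t'.x2]) fun e => hy (e ▸ one_mem _),
    fun e => hx (e ▸ t'.xE), ?_⟩
  set D := closure {x, y} with hD
  have dx : x ∈ D := subset_closure (Or.inl rfl)
  have dy : y ∈ D := subset_closure (Or.inr rfl)
  have dz : z ∈ D := (mul_mem_cancel_left dx).1
    (t.act y (h.F_le t'.xE) hy ▸ mul_mem (mul_mem dy dx) (inv_mem dy))
  have dw : w ∈ D := (mul_mem_cancel_left dy).1
    (t'.act x (h.symm.F_le t.xE) hx ▸ mul_mem (mul_mem dx dy) (inv_mem dx))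
  have hDP : D ≤ P := (closure_le _).2 (by
    rintro _ (rfl | rfl)
    exacts [h.hE.le t.xE, h.hF.le t'.xE])
  have hPD : (P : Subgroup G) ≤ 𝐍 D := le_normalizer_of_cj_le fun s hs => by
    rw [hD, cj_closure]
    refine (closure_le _).2 ?_
    rintro _ ⟨_, rfl | rfl, rfl⟩
    · rcases t.conj_eq (hT.ge hs) with e | e <;> simp only [e]
      exacts [dx, mul_mem dx dz]
    · rcases t'.conj_eq (hT'.ge hs) with e | e <;> simp only [e]
      exacts [dy, mul_mem dy dw]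
  have k2 : ∀ {E F x z y w}, Pp (P : Subgroup G) E F → AInt.Tp (P : Subgroup G) E x z →
      AInt.Tp (P : Subgroup G) F y w → x ∈ D → z ∈ D →
      ∀ g ∈ 𝐍 E, ∀ a ∈ E, a⁻¹ * (g * a * g⁻¹) ∈ D := by
    intro X F x z y w p h h' d1 d2 g hg
    have h1 : ∀ g ∈ 𝐍 X, g * z * g⁻¹ ∈ D := fun g hg => by
      rcases h.cls g hg with e | e | e <;> rw [e]
      exacts [d2, d1, mul_mem d1 d2]
    have h2 : ∀ v ∈ X, ∀ a ∈ X, v ∈ D → g * v * g⁻¹ ∈ D → (v * a)⁻¹ * (g * (v * a) * g⁻¹) ∈ D →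
        a⁻¹ * (g * a * g⁻¹) ∈ D := fun v hv a ha e1 e2 e3 => by
      have e4 := p.comm (inv_mem ha) (mul_mem (inv_mem hv) (conj_mem_of_normalizes le_rfl hg hv))
      refine (mul_mem_cancel_left (mul_mem (inv_mem e1) e2)).1 ?_
      convert e3 using 1
      rw [← mul_assoc, ← e4]; group
    have h3 : ∀ a ∈ AInt.Z0 (P : Subgroup G) X, a⁻¹ * (g * a * g⁻¹) ∈ D := fun a ha => by
      rw [p.conj_Z0 H h' ha hg, inv_mul_cancel]; exact one_mem _
    have h4 : ∀ a ∈ X, a ∈ 𝐂 ((P : Subgroup G) ⊓ 𝐍 X) → a⁻¹ * (g * a * g⁻¹) ∈ D := fun a ha f =>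
      (h.dec a ha f).elim (h3 a) fun f' => h2 z h.zE a ha d2 (h1 g hg) (h3 _ f')
    intro a ha
    refine (h.dec' a ha).elim (h4 a ha) fun f => h2 x h.xE a ha d1 ?_ (h4 _ (mul_mem h.xE ha) f)
    obtain ⟨g0, hg0, e⟩ := h.conj
    convert h1 _ (mul_mem hg hg0) using 1
    rw [← e]; group
  have k3 : ∀ {E F}, Pp (P : Subgroup G) E F → (P : Subgroup G) ⊓ 𝐍 E = P →
      𝐍 (P : Subgroup G) ≤ 𝐍 E := fun {E F} p e => FusInv.le_of_sylowIn_of_odd
    (sylIn_sylow P le_normalizer).not_dvd_relIndex (inf_le_left.trans (e.ge.trans inf_le_right))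
    fun g hg ho => by_contra fun f => f (FusInv.mem_of_pow_two_pow_mem ho (k := 1) (by
      rw [pow_one, pow_two]
      exact p.mul_mem_norm (e.symm ▸ hg) (e.symm ▸ hg) f f))
  obtain ⟨K, hK, hKP, -⟩ := FusInv.exists_normal_inf_eq P hDP fun a ha g hg =>
    QuotientGroup.eq.1 (invariant_loc H (fun a => (QuotientGroup.mk a : G ⧸ D))
      (fun n hn a ha => (QuotientGroup.eq.2 (by
        obtain ⟨f, hf, e, he, rfl⟩ := h.dec (hT.ge ha)
        convert mul_mem (conj_mem_of_normalizes' hPD (h.hE.le he)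
          (k2 h.symm t' t dy dw n (k3 h.symm hT' hn) f hf)) (k2 h t t' dx dz n (k3 h hT hn) e he)
          using 1
        group)).symm)
      (fun X hX g hg a ha => (QuotientGroup.eq.2 (by
        rcases hel X hX with rfl | rfl
        exacts [k2 h t t' dx dz g hg a ha, k2 h.symm t' t dy dw g hg a ha])).symm) ha hg).symm
  rcases hK.eq_bot_or_eq_top with rfl | rfl
  · rw [← hKP, bot_inf_eq, mem_bot] at dz
    exact absurd dz t.z1
  · rw [← hKP, top_inf_eq]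

end CL.GTI
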