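import Mathlib
import Cfsg.Agent.INV.GT.Defs
import Cfsg.Agent.INV.MaxLocal
import Cfsg.Agent.TECH.Amb
import Cfsg.Agent.SOLV.Core
import Cfsg.Agent.PERM.MinNormal

/-!
Reduction to simple groups.
-/

set_option autoImplicit false
set_option linter.unusedSectionVars false

namespace CL.GTI

open Cfsg Subgroup CL.MSS CL.Th
open scoped commutatorElement

variable {G : Type*} [Group G] [Finite G]

local notation "𝐂" A:max => centralizer ((A : Subgroup G) : Set G)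
local notation "𝐍" A:max => normalizer ((A : Subgroup G) : Set G)

theorem comm_mem' {V : Subgroup G} {v a : G} (hv : v ∈ V) (ha : a ∈ 𝐍 V) : ⁅a, v⁆ ∈ V :=
  mul_mem (conj_mem_of_normalizes le_rfl ha hv) (inv_mem hv)

theorem hyp_of (hA : ∀ M : Subgroup G, IsMaximalTwoLocal M →
    (∀ P : Sylow 2 M, ¬ (P : Subgroup M).Normal) →
      centralizer ((pCore 2 M) : Set M) ≤ pCore 2 M ∧
      (∀ P Q : Sylow 2 (M ⧸ pCore 2 M), P ≠ Q → (P : Subgroup (M ⧸ pCore 2 M)) ⊓ Q = ⊥) ∧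
      (∀ x ∈ pCore 2 M, orderOf x = 2 → ∃ P : Sylow 2 M, x ∈ (P : Subgroup M) ∧
        ∀ y ∈ (P : Subgroup M), y * x = x * y)) : Hyp G := fun I hI h0 nc => by
  obtain ⟨M, hM, hle⟩ := MaxLoc.exists_ge hI h0
  have ncM := nc.mono hle
  obtain ⟨a, b, c⟩ := hA M hM fun P hP =>
    ncM.not_le (sylIn_map_subtype P) (CL.MSS.le_normalizer_map_subtype _)
  have e := MaxLoc.normalizer_pCoreOf hM
  refine ⟨pCoreOf 2 M, ⟨pcoreOf_isPGroup M, MaxLoc.pCoreOf_ne_bot hM.1, fun C h1 h2 h3 => ?_,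
    fun x hx => charP_iff.1 a ⟨e ▸ centralizer_le_normalizer _ hx, hx⟩, ?_, ?_, e.symm ▸ ncM⟩,
    e.symm ▸ hle⟩
  · rw [e] at h3 ⊢
    exact (MaxLoc.normalizer_eq_of_le hM h1 h2 h3).le
  · rw [e]
    intro T T' hT hT' hne x hx
    have hf := QuotientGroup.mk'_surjective (pCore 2 M)
    have h1 := b (hT.toSylow.mapSurjective hf) (hT'.toSylow.mapSurjective hf) fun f => hne (by
      have h2 := congrArg (fun P : Sylow 2 (M ⧸ pCore 2 M) =>
        (P : Subgroup (M ⧸ pCore 2 M)).comap (QuotientGroup.mk' (pCore 2 M))) f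
      simp only [Sylow.coe_mapSurjective, comap_map_eq, QuotientGroup.ker_mk',
        sup_eq_left.2 (pcore_le_sylow _)] at h2
      rw [← hT.map_toSylow, h2, hT'.map_toSylow])
    refine (mem_pcoreOf_iff ⟨x, hT.le hx.1⟩).2 ((QuotientGroup.eq_one_iff _).1 (mem_bot.1 ?_))
    rw [← h1]
    exact ⟨⟨_, hx.1, rfl⟩, ⟨_, hx.2, rfl⟩⟩
  · rw [e]
    intro v hv v2
    by_cases v1 : v = 1
    · exact (exists_sylIn 2 M).imp fun T hT => ⟨hT, v1 ▸ one_mem _⟩
    obtain ⟨P, -, hP⟩ := c ⟨v, pcoreOf_le M hv⟩ ((mem_pcoreOf_iff _).1 hv)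
      (orderOf_eq_prime (Subtype.ext (by simpa [pow_two] using v2)) fun f => v1 (congrArg Subtype.val f))
    refine ⟨_, sylIn_map_subtype P, ?_⟩
    rintro _ ⟨y, hy, rfl⟩
    exact congrArg Subtype.val (hP y hy)

theorem NC.map_subtype {K : Subgroup G} {M : Subgroup K} (h : NC M) : NC (M.map K.subtype) :=
  let ⟨_, _, a, b, c⟩ := h
  ⟨_, _, a.map_injective K.subtype_injective, b.map_injective K.subtype_injective,
    fun e => c (map_injective K.subtype_injective e)⟩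

theorem Hyp.normal (H : Hyp G) (K : Subgroup G) [hK : K.Normal] : Hyp K := fun I hI h0 nc => by
  obtain ⟨M, hM, hle⟩ := MaxLoc.exists_ge hI h0
  have ncM := nc.mono hle
  obtain ⟨J, hJ, hJ0, rfl⟩ := hM.1
  have hN : 𝐍 K = ⊤ := normalizer_eq_top K
  obtain ⟨Q, hQ, e⟩ := H (J.map K.subtype) (hJ.map _)
    (fun f => hJ0 ((map_eq_bot_iff_of_injective _ K.subtype_injective).1 f))
    (ncM.map_subtype.mono (le_normalizer_map _))
  have hc : ∀ c ∈ K, c ∈ 𝐍 Q → ∀ a ∈ Q, ⁅a, c⁆ ∈ Q ⊓ K := fun c hc hc' a ha =>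
    ⟨comm_mem ha hc', comm_mem' hc (hN ▸ mem_top a)⟩
  have h1 : normalizer (J : Set K) ≤ (𝐍 Q).subgroupOf K := fun x hx =>
    e (le_normalizer_map _ (mem_map_of_mem _ hx))
  have h2 : (𝐍 Q).subgroupOf K ≤ normalizer (Q.subgroupOf K : Set K) := le_normalizer_comap _
  have h3 : Q.subgroupOf K ≠ ⊥ := fun f => hJ0 (eq_bot_iff.2 fun j hj => f ▸ hQ.chp fun a ha => by
    have := hc j j.2 (h1 (le_normalizer hj)) a ha
    rw [subgroupOf_eq_bot, disjoint_iff] at f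
    exact commutatorElement_eq_one_iff_mul_comm.1 (mem_bot.1 (f ▸ this)))
  have h4 := MaxLoc.normalizer_eq_of_le hM (isPGroup_subgroupOf hQ.pg K) h3 (h1.trans h2)
  have h5 : normalizer (Q.subgroupOf K : Set K) = (𝐍 Q).subgroupOf K := le_antisymm (h4 ▸ h1) h2
  refine ⟨Q.subgroupOf K, ⟨isPGroup_subgroupOf hQ.pg K, h3, fun C a b c => ?_, fun c hc' => ?_,
    fun T T' a b c x hx => ?_, fun v hv v2 => ?_, h4.symm ▸ ncM⟩, h4.symm ▸ hle⟩
  · rw [h4] at c ⊢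
    exact (MaxLoc.normalizer_eq_of_le hM a b c).le
  · exact hQ.mem_of_stb inf_le_left (CL.MSS.le_normalizer_inf le_rfl (hN ▸ le_top))
      (fun a ha => congrArg Subtype.val (hc' ⟨a, ha.2⟩ ha.1))
      (hc c c.2 (h5.le (centralizer_le_normalizer _ hc')))
  · rw [h5] at a b
    exact hQ.le_of_two ((subgroupOf_map_subtype _ _).le.trans inf_le_left)
      (a.map_injective K.subtype_injective) (b.map_injective K.subtype_injective)
      (fun e => c (map_injective K.subtype_injective e))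
      ⟨mem_map_of_mem _ hx.1, mem_map_of_mem _ hx.2⟩
  · obtain ⟨T, a, b⟩ := hQ.cov v hv (congrArg Subtype.val v2)
    have := (a.inf_normal (N := K) (hN ▸ le_top)).subgroupOf inf_le_right
    rw [inf_subgroupOf_right, inf_subgroupOf_right, ← h5] at this
    exact ⟨_, this, fun y hy => Subtype.ext (b y hy)⟩

theorem exists_inv_of_subnormal (hO : oddCore G = ⊥) {L : Subgroup G} (hL : L.IsSubnormal)
    (h0 : L ≠ ⊥) : 2 ∣ Nat.card L := by_contra fun h =>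
  h0 (eq_bot_iff.2 (hO ▸ le_pPrimeCore_of_isSubnormal hL
    ((Nat.prime_two.coprime_iff_not_dvd.2 h).symm)))

theorem Hyp.inf_cent (H : Hyp G) (hO : oddCore G = ⊥) (hO2 : pCore 2 G = ⊥) {K L X : Subgroup G}
    [hK : K.Normal] (hL : L ≤ K) (hn : K ≤ 𝐍 L) (h0 : L ≠ ⊥) (hX : X.IsSubnormal) (hc : X ≤ 𝐂 L) :
    X = ⊥ := by
  by_contra hX0
  obtain ⟨⟨z, hz⟩, z2⟩ := exists_prime_orderOf_dvd_card' (G := X) 2
    (exists_inv_of_subnormal hO hX hX0)
  obtain ⟨z2, z1⟩ := (orderOf_eq_prime_iff (p := 2)).1 z2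
  have hs : L.IsSubnormal := .step _ _ hL hK.isSubnormal ((normal_subgroupOf_iff_le_normalizer hL).2 hn)
  have h2 : ∀ R, R ≤ L → IsPGroup 2 R → L ≤ 𝐍 R → R = ⊥ := fun R a b c =>
    eq_bot_iff.2 (hO2 ▸ le_pCore_of_subnormal
      (.step _ _ a hs ((normal_subgroupOf_iff_le_normalizer a).2 c)) b)
  obtain ⟨T, hT⟩ := exists_sylIn 2 L
  have h3 : L ≤ 𝐍 (zpowers z) := fun g hg =>
    mem_normalizer_iff_cj.2 (by rw [cj_zpowers, hc hz g hg, mul_inv_cancel_right])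
  obtain ⟨Q, hQ, e⟩ := H (zpowers z)
    (isPGroup_zpowers (k := 1) (by rw [pow_one]; exact congrArg Subtype.val z2))
    (fun e => z1 (Subtype.ext (zpowers_eq_bot.1 e)))
    ((nc_of_not_le hT fun f => hT.ne_bot (exists_inv_of_subnormal hO hs h0)
      (h2 T hT.le hT.pgroup f)).mono h3)
  replace e := h3.trans e
  have h4 := h2 (L ⊓ Q) inf_le_left hQ.pg.to_inf_right (CL.MSS.le_normalizer_inf le_normalizer e)
  have hN : 𝐍 K = ⊤ := normalizer_eq_top K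
  refine h0 (h2 L le_rfl (hQ.pg_of_odd fun g hg ho => cent_of_stb (B := Q ⊓ K) hQ.pg.to_inf_left ho
    ⟨CL.MSS.le_normalizer_inf e (hN ▸ le_top) hg, fun a ha => ⟨comm_mem ha (e hg), ?_⟩⟩
    fun a ha => commutatorElement_eq_one_iff_mul_comm.1 (mem_bot.1 (h4 ▸ ⟨?_, comm_mem ha.1 (e hg)⟩)))
    le_normalizer)
  · exact comm_mem' (hL hg) (hN ▸ mem_top a)
  · exact comm_mem' hg (hn ha.2)

theorem Hyp.exists_simple [Nontrivial G] (H : Hyp G) (hO : oddCore G = ⊥) (hO2 : pCore 2 G = ⊥) :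
    ∃ K : Subgroup G, K.Normal ∧ 𝐂 K = ⊥ ∧ IsSimpleGroup K ∧ ¬ IsMulCommutative K := by
  obtain ⟨K, hK, h0, -, hmin⟩ := CL.Perm.exists_minimal_normal_le (⊤ : Subgroup G) top_ne_bot
  have hC := H.inf_cent hO hO2 le_rfl le_normalizer h0 (Normal.isSubnormal inferInstance) le_rfl
  haveI := (nontrivial_iff_ne_bot K).2 h0
  refine ⟨K, hK, hC, ⟨fun N hN => or_iff_not_imp_left.2 fun hN0 => ?_⟩, fun hc => h0 (eq_bot_iff.2
    fun a ha => hC ▸ fun b hb => congrArg Subtype.val (hc.is_comm.comm ⟨b, hb⟩ ⟨a, ha⟩))⟩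
  obtain ⟨L, ⟨h1, h2, h3⟩, hL⟩ := exists_minimal_of_wellFoundedLT
    (fun L : Subgroup G => L ≤ N.map K.subtype ∧ L ≠ ⊥ ∧ K ≤ 𝐍 L)
    ⟨_, le_rfl, fun f => hN0 ((map_eq_bot_iff_of_injective _ K.subtype_injective).1 f),
      CL.MSS.le_normalizer_map_subtype N⟩
  have hLK := h1.trans (map_subtype_le N)
  have h4 : L.Normal := normal_of_cj fun g => by_contra fun hne => by
    have h5 : g •ᶜ L ≤ K := (cj_mono g hLK).trans (cj_eq_of_normal g K).le
    have h6 : K ≤ 𝐍 (g •ᶜ L) := by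
      rw [← cj_normalizer]; exact (cj_eq_of_normal g K).ge.trans (cj_mono g h3)
    have h7 : L ⊓ g •ᶜ L = ⊥ := by_contra fun f => hne (cj_eq_of_ge ((hL ⟨inf_le_left.trans h1, f,
      CL.MSS.le_normalizer_inf h3 h6⟩ inf_le_left).trans inf_le_right))
    refine h2 (cj_eq_bot_iff.1 (H.inf_cent hO hO2 hLK h3 h2 (.step _ _ h5 hK.isSubnormal
      ((normal_subgroupOf_iff_le_normalizer h5).2 h6)) fun a ha b hb => ?_))
    refine commutatorElement_eq_one_iff_mul_comm.1 (mem_bot.1 (h7 ▸ ⟨comm_mem hb (h3 (h5 ha)), ?_⟩))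
    exact comm_mem' ha (h6 (hLK hb))
  obtain rfl := (hmin L h4 hLK).resolve_left h2
  exact eq_top_iff.2 fun x _ => by
    obtain ⟨y, hy, e⟩ := h1 x.2
    exact Subtype.ext e ▸ hy

end CL.GTI
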